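import Mathlib
import Cfsg.Prelude.Def_LieExceptional
import Cfsg.Agent.Lib.SzB.Auto
import Cfsg.Agent.Lib.SzB.Std
import Cfsg.Agent.Lib.SzB.MinDegree

/-!
# The Suzuki group as the stabiliser of the ovoid: the orbit of the first point
-/

set_option autoImplicit false

open scoped Matrix

namespace Cfsg.Agent.SzO

open Cfsg.Agent.SzB
open Cfsg.Agent.SuzukiFix (antiJ)

variable {F : Type*} [Field F] [CharP F 2] {τ : Twist F}

local notation "SL4" => Matrix.SpecialLinearGroup (Fin 4) F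

theorem det_eq_one (g : Cfsg.Lie.Sz F τ.e) :
    ((g : GL (Fin 4) F) : Matrix (Fin 4) (Fin 4) F).det = 1 := by
  have h := congrArg Matrix.det (mem_facts τ g.2).1
  rw [Matrix.det_mul, Matrix.det_mul, Matrix.det_transpose] at h
  set d := ((g : GL (Fin 4) F) : Matrix (Fin 4) (Fin 4) F).det
  have hJ : (antiJ : Matrix (Fin 4) (Fin 4) F).det ≠ 0 := by
    intro h0
    have := congrArg Matrix.det (Cfsg.Agent.SuzukiFix.antiJ_mul_self (F := F))
    rw [Matrix.det_mul, h0, zero_mul, Matrix.det_one] at this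
    exact zero_ne_one this
  have hd : d ^ 2 = 1 ^ 2 := by
    apply mul_right_cancel₀ hJ
    linear_combination h
  exact frobenius_inj F 2 (by simpa [frobenius_def] using hd)

/-- the inclusion in the special linear group -/
def toSL : Cfsg.Lie.Sz F τ.e →* SL4 where
  toFun g := ⟨((g : GL (Fin 4) F) : Matrix (Fin 4) (Fin 4) F), det_eq_one g⟩
  map_one' := by apply Subtype.ext; rfl
  map_mul' g h := by apply Subtype.ext; rfl

theorem toSL_coe (g : Cfsg.Lie.Sz F τ.e) :
    (toSL g : Matrix (Fin 4) (Fin 4) F) = ((g : GL (Fin 4) F) : Matrix (Fin 4) (Fin 4) F) := rfl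

theorem toSL_injective : Function.Injective (toSL (τ := τ) : Cfsg.Lie.Sz F τ.e → SL4) :=
  fun _ _ h => Subtype.ext (Units.ext (congrArg Subtype.val h))

theorem colS_ne (g : Cfsg.Lie.Sz F τ.e) : colS τ g ≠ 0 := col_ne _

/-- the point spanned by the first column -/
def pt (g : Cfsg.Lie.Sz F τ.e) : Projectivization F (Fin 4 → F) :=
  Projectivization.mk F (colS τ g) (colS_ne g)

theorem colS_mul (x g : Cfsg.Lie.Sz F τ.e) :
    colS τ (x * g) = ((x : GL (Fin 4) F) : Matrix (Fin 4) (Fin 4) F) *ᵥ colS τ g := col_mul _ _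

theorem sl_smul_mk (g : SL4) {v : Fin 4 → F} (hv : v ≠ 0) (hgv : (g : Matrix (Fin 4) (Fin 4) F) *ᵥ v ≠ 0) :
    g • Projectivization.mk F v hv = Projectivization.mk F ((g : Matrix (Fin 4) (Fin 4) F) *ᵥ v) hgv := by
  rw [Projectivization.matrixSpecialLinearGroup_smul_def, Projectivization.smul_mk]
  congr 1

theorem smul_pt (x g : Cfsg.Lie.Sz F τ.e) : toSL x • pt g = pt (x * g) := by
  have h : (toSL x : Matrix (Fin 4) (Fin 4) F) *ᵥ colS τ g ≠ 0 := by
    rw [toSL_coe, ← colS_mul]; exact colS_ne _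
  rw [pt, pt, sl_smul_mk _ _ h]
  exact (Projectivization.mk_eq_mk_iff' F _ _ _ _).mpr ⟨1, by rw [one_smul, colS_mul, toSL_coe]⟩

theorem pt_eq_iff {g h : Cfsg.Lie.Sz F τ.e} : pt g = pt h ↔ h⁻¹ * g ∈ bor τ := by
  constructor
  · intro e
    obtain ⟨a, ha⟩ := (Projectivization.mk_eq_mk_iff' F _ _ _ _).mp e
    refine ⟨a, ?_⟩
    have := colS_scale τ ha.symm h⁻¹
    rwa [inv_mul_cancel] at this
  · rintro ⟨c, hc⟩
    have h1 := colS_scale τ hc h
    rw [mul_inv_cancel_left, mul_one] at h1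
    exact (Projectivization.mk_eq_mk_iff' F _ _ _ _).mpr ⟨c, h1.symm⟩

theorem pt_one : pt (1 : Cfsg.Lie.Sz F τ.e) = Cfsg.suzukiPointInfinity F := by
  refine (Projectivization.mk_eq_mk_iff' F _ _ _ _).mpr ⟨1, ?_⟩
  funext i
  fin_cases i <;> simp [colS, col, Matrix.one_apply]

theorem pt_wS : pt (wS τ) = Cfsg.suzukiPointZero F := by
  refine (Projectivization.mk_eq_mk_iff' F _ _ _ _).mpr ⟨1, ?_⟩
  funext i
  fin_cases i <;> simp [colS, col, wS, wg, antiJ]

theorem colS_cell (x y : F) : colS τ (uS τ x y * wS τ) = ![corner τ x y, y, x, 1] := by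
  have e : uS τ x y * wS τ = wS τ * lS τ x y := by rw [uS, mul_assoc, wS_sq, mul_one]
  rw [e, colS_mul]
  funext i
  fin_cases i <;>
    simp [colS, col, wS, wg, lS, lg_coe, antiJ, lm, Matrix.mulVec, dotProduct, Fin.sum_univ_four]

/-- the parametrised ovoid -/
def ov (x y : F) : Fin 4 → F := ![corner τ x y, y, x, 1]

theorem ov_ne (x y : F) : ov (τ := τ) x y ≠ 0 := fun h => by
  simpa [ov] using congrFun h 3

theorem pt_cell (x y : F) :
    pt (uS τ x y * wS τ) = Projectivization.mk F (ov (τ := τ) x y) (ov_ne x y) :=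
  (Projectivization.mk_eq_mk_iff' F _ _ _ _).mpr ⟨1, by rw [one_smul, colS_cell]; rfl⟩

theorem pt_cases (g : Cfsg.Lie.Sz F τ.e) :
    pt g = pt (1 : Cfsg.Lie.Sz F τ.e) ∨ ∃ x y : F, pt g = pt (uS τ x y * wS τ) := by
  by_cases hg : g ∈ bor τ
  · left; rw [pt_eq_iff, inv_one, one_mul]; exact hg
  · obtain ⟨x, y, h⟩ := exists_cell τ hg
    exact Or.inr ⟨x, y, pt_eq_iff.mpr h⟩

end Cfsg.Agent.SzO
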