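import Mathlib
import Cfsg.Agent.Lib.SzO.Point

/-!
# Projectivities of the ovoid fixing two points
-/

set_option autoImplicit false

open scoped Matrix

namespace Cfsg.Agent.SzO

open Cfsg.Agent.SzB
open Polynomial (C X)

variable {F : Type*} [Field F] [Fintype F] [CharP F 2] {m : ℕ}

theorem sigma_bounds (hm : 1 ≤ m) (hF : Fintype.card F = 2 ^ (2 * m + 1)) :
    4 ≤ 2 ^ (m + 1) ∧ 2 ^ (m + 1) + 2 < Fintype.card F := by
  have h1 : 2 ^ 2 ≤ 2 ^ (m + 1) := Nat.pow_le_pow_right (by norm_num) (by omega)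
  refine ⟨by simpa using h1, ?_⟩
  rw [hF, show 2 ^ (2 * m + 1) = 2 ^ (m + 1) * 2 ^ m by rw [← pow_add]; congr 1; ring]
  have h2 : 2 ^ 1 ≤ 2 ^ m := Nat.pow_le_pow_right (by norm_num) hm
  nlinarith

/-- A combination of the four monomials vanishing everywhere is trivial. -/
theorem four_coeff (hm : 1 ≤ m) (hF : Fintype.card F = 2 ^ (2 * m + 1)) (c : Fin 4 → F)
    (h : ∀ x : F, c 0 * x ^ (2 ^ (m + 1) + 2) + c 1 * x ^ 2 ^ (m + 1) + c 2 * x ^ 2 + c 3 * x = 0) :
    ∀ i, c i = 0 := by
  classical
  obtain ⟨hs4, hsq⟩ := sigma_bounds hm hF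
  set s := 2 ^ (m + 1) with hs
  set p : Polynomial F := C (c 0) * X ^ (s + 2) + C (c 1) * X ^ s + C (c 2) * X ^ 2 + C (c 3) * X ^ 1
    with hp
  have hdeg : p.natDegree < Fintype.card F := by
    refine lt_of_le_of_lt (Polynomial.natDegree_le_iff_coeff_eq_zero.mpr ?_) hsq
    intro N hN
    simp only [hp, Polynomial.coeff_add, Polynomial.coeff_C_mul_X_pow]
    rw [if_neg (by omega), if_neg (by omega), if_neg (by omega), if_neg (by omega)]
    simp
  have hz : p = 0 := by
    apply Polynomial.eq_zero_of_natDegree_lt_card_of_eval_eq_zero p (f := fun x : F => x)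
      Function.injective_id (fun x => ?_) hdeg
    simpa [hp] using h x
  have hc : ∀ N, (p.coeff N) = 0 := fun N => by rw [hz, Polynomial.coeff_zero]
  simp only [hp, Polynomial.coeff_add, Polynomial.coeff_C_mul_X_pow] at hc
  intro i
  fin_cases i
  · have := hc (s + 2)
    rw [if_pos rfl, if_neg (by omega), if_neg (by omega), if_neg (by omega)] at this
    simpa using this
  · have := hc s
    rw [if_neg (by omega), if_pos rfl, if_neg (by omega), if_neg (by omega)] at this
    simpa using this
  · have := hc 2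
    rw [if_neg (by omega), if_neg (by omega), if_pos rfl, if_neg (by omega)] at this
    simpa using this
  · have := hc 1
    rw [if_neg (by omega), if_neg (by omega), if_neg (by omega), if_pos rfl] at this
    simpa using this

theorem th_eq (hF : Fintype.card F = 2 ^ (2 * m + 1)) (x : F) :
    (stdTwist hF).th x = x ^ 2 ^ (m + 1) := (stdTwist hF).th_apply x

theorem corner_eq (hF : Fintype.card F = 2 ^ (2 * m + 1)) (x y : F) :
    corner (stdTwist hF) x y = x * y + x ^ (2 ^ (m + 1) + 2) + y ^ 2 ^ (m + 1) := by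
  rw [corner, th_eq, th_eq, pow_add]; ring

theorem ovoid_eq (hF : Fintype.card F = 2 ^ (2 * m + 1)) :
    Cfsg.suzukiOvoid F m = Set.range (pt (τ := stdTwist hF)) := by
  apply Set.eq_of_subset_of_subset
  · rintro p ⟨v, hv, rfl, rfl | ⟨x, y, rfl⟩⟩
    · exact ⟨1, pt_one⟩
    · refine ⟨uS _ x y * wS _, ?_⟩
      rw [pt_cell]
      refine (Projectivization.mk_eq_mk_iff' F _ _ _ _).mpr ⟨1, ?_⟩
      rw [one_smul, ov, corner_eq]
  · rintro p ⟨g, rfl⟩
    rcases pt_cases g with h | ⟨x, y, h⟩
    · refine ⟨![1, 0, 0, 0], by simp, ?_, Or.inl rfl⟩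
      rw [h, pt_one]; rfl
    · refine ⟨ov (τ := stdTwist hF) x y, ov_ne x y, by rw [h, pt_cell], Or.inr ⟨x, y, ?_⟩⟩
      rw [ov, corner_eq]

/-- A matrix preserving the ovoid and fixing its two distinguished points is diagonal from the torus. -/
theorem fix_two (hm : 1 ≤ m) (hF : Fintype.card F = 2 ^ (2 * m + 1))
    (g : Matrix.SpecialLinearGroup (Fin 4) F)
    (hov : ∀ p ∈ Cfsg.suzukiOvoid F m, g • p ∈ Cfsg.suzukiOvoid F m)
    (hinf : g • Cfsg.suzukiPointInfinity F = Cfsg.suzukiPointInfinity F)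
    (hzero : g • Cfsg.suzukiPointZero F = Cfsg.suzukiPointZero F) :
    ∃ u : Fˣ, g = toSL (tS (stdTwist hF) u) := by
  classical
  have h2 : (2 : F) = 0 := CharTwo.two_eq_zero
  set τ := stdTwist hF with hτ
  set M := (g : Matrix (Fin 4) (Fin 4) F) with hM
  have hne : ∀ {v : Fin 4 → F}, v ≠ 0 → M *ᵥ v ≠ 0 := by
    intro v hv h0
    apply hv
    have := congrArg ((g⁻¹ : Matrix.SpecialLinearGroup (Fin 4) F).1 *ᵥ ·) h0
    simp only [Matrix.mulVec_mulVec, Matrix.mulVec_zero] at this
    rw [hM, ← Matrix.SpecialLinearGroup.coe_mul, inv_mul_cancel, Matrix.SpecialLinearGroup.coe_one,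
      Matrix.one_mulVec] at this
    exact this
  rw [Cfsg.suzukiPointInfinity, sl_smul_mk _ _ (hne (by simp))] at hinf
  rw [Cfsg.suzukiPointZero, sl_smul_mk _ _ (hne (by simp))] at hzero
  obtain ⟨lam, hlam⟩ := (Projectivization.mk_eq_mk_iff' F _ _ _ _).mp hinf
  obtain ⟨mu, hmu⟩ := (Projectivization.mk_eq_mk_iff' F _ _ _ _).mp hzero
  have e00 : M 0 0 = lam := by
    have := congrFun hlam 0; simpa [← hM, Matrix.mulVec, dotProduct, Fin.sum_univ_four] using this.symm
  have e10 : M 1 0 = 0 := by
    have := congrFun hlam 1; simpa [← hM, Matrix.mulVec, dotProduct, Fin.sum_univ_four] using this.symm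
  have e20 : M 2 0 = 0 := by
    have := congrFun hlam 2; simpa [← hM, Matrix.mulVec, dotProduct, Fin.sum_univ_four] using this.symm
  have e30 : M 3 0 = 0 := by
    have := congrFun hlam 3; simpa [← hM, Matrix.mulVec, dotProduct, Fin.sum_univ_four] using this.symm
  have e03 : M 0 3 = 0 := by
    have := congrFun hmu 0; simpa [← hM, Matrix.mulVec, dotProduct, Fin.sum_univ_four] using this.symm
  have e13 : M 1 3 = 0 := by
    have := congrFun hmu 1; simpa [← hM, Matrix.mulVec, dotProduct, Fin.sum_univ_four] using this.symm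
  have e23 : M 2 3 = 0 := by
    have := congrFun hmu 2; simpa [← hM, Matrix.mulVec, dotProduct, Fin.sum_univ_four] using this.symm
  have e33 : M 3 3 = mu := by
    have := congrFun hmu 3; simpa [← hM, Matrix.mulVec, dotProduct, Fin.sum_univ_four] using this.symm
  -- the image of a finite point
  have key : ∀ x y : F, ∃ c x' y' : F, c ≠ 0 ∧
      M 0 0 * corner τ x y + M 0 1 * y + M 0 2 * x = c * corner τ x' y' ∧
      M 1 1 * y + M 1 2 * x = c * y' ∧ M 2 1 * y + M 2 2 * x = c * x' ∧
      M 3 1 * y + M 3 2 * x + mu = c := by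
    intro x y
    have hp : pt (uS τ x y * wS τ) ∈ Cfsg.suzukiOvoid F m := by rw [ovoid_eq hF]; exact ⟨_, rfl⟩
    have hq := hov _ hp
    rw [ovoid_eq hF] at hq
    obtain ⟨k, hk⟩ := hq
    rw [pt_cell, sl_smul_mk _ _ (hne (ov_ne x y))] at hk
    rcases pt_cases k with h | ⟨x', y', h⟩
    · exfalso
      rw [h, pt_one, Cfsg.suzukiPointInfinity, ← hinf] at hk
      obtain ⟨a, ha⟩ := (Projectivization.mk_eq_mk_iff' F _ _ _ _).mp hk.symm
      have hinj : ∀ {v : Fin 4 → F}, M *ᵥ v = 0 → v = 0 := fun h => by_contra fun hv => hne hv h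
      have hd : a • (![1, 0, 0, 0] : Fin 4 → F) - ov (τ := τ) x y = 0 := by
        apply hinj
        rw [Matrix.mulVec_sub, Matrix.mulVec_smul, ha, sub_self]
      have := congrFun hd 3
      simp [ov] at this
    · rw [h, pt_cell] at hk
      obtain ⟨c, hc⟩ := (Projectivization.mk_eq_mk_iff' F _ _ _ _).mp hk.symm
      have hc0 : c ≠ 0 := by
        rintro rfl
        rw [zero_smul] at hc
        exact hne (ov_ne x y) hc.symm
      refine ⟨c, x', y', hc0, ?_, ?_, ?_, ?_⟩
      · have := congrFun hc 0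
        simpa [← hM, ov, Matrix.mulVec, dotProduct, Fin.sum_univ_four, e03] using this.symm
      · have := congrFun hc 1
        simpa [← hM, ov, Matrix.mulVec, dotProduct, Fin.sum_univ_four, e10, e13] using this.symm
      · have := congrFun hc 2
        simpa [← hM, ov, Matrix.mulVec, dotProduct, Fin.sum_univ_four, e20, e23] using this.symm
      · have := congrFun hc 3
        simpa [← hM, ov, Matrix.mulVec, dotProduct, Fin.sum_univ_four, e30, e33] using this.symm
  have hmu0 : mu ≠ 0 := by
    obtain ⟨c, x', y', hc, -, -, -, h⟩ := key 0 0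
    rw [mul_zero, mul_zero, zero_add, zero_add] at h
    rwa [h]
  have e31 : M 3 1 = 0 := by
    by_contra h31
    obtain ⟨c, x', y', hc, -, -, -, h⟩ := key 0 (-mu / M 3 1)
    apply hc
    rw [← h]; field_simp; ring
  have e32 : M 3 2 = 0 := by
    by_contra h32
    obtain ⟨c, x', y', hc, -, -, -, h⟩ := key (-mu / M 3 2) 0
    apply hc
    rw [← h]; field_simp; ring
  -- normalised entries
  set a := M 2 2 / mu
  set b := M 2 1 / mu
  set cc := M 1 2 / mu
  set d := M 1 1 / mu
  set L := lam / mu
  set P := M 0 1 / mu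
  set Q := M 0 2 / mu
  have eqn : ∀ x y : F, L * corner τ x y + P * y + Q * x = corner τ (a * x + b * y) (cc * x + d * y) := by
    intro x y
    obtain ⟨c, x', y', hc, h0, h1, h2', h3⟩ := key x y
    rw [e31, e32, zero_mul, zero_mul, zero_add, zero_add] at h3
    subst h3
    have hx' : a * x + b * y = x' := by
      simp only [a, b]; field_simp; linear_combination h2'
    have hy' : cc * x + d * y = y' := by
      simp only [cc, d]; field_simp; linear_combination h1
    rw [hx', hy']
    simp only [L, P, Q]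
    field_simp
    rw [← e00]
    linear_combination h0
  set s := 2 ^ (m + 1) with hs
  have hs0 : s ≠ 0 := by positivity
  have hA := four_coeff hm hF ![L - a ^ (s + 2), -cc ^ s, -(a * cc), Q] (fun x => by
    have h := eqn x 0
    simp only [hτ, corner_eq, mul_zero, zero_pow hs0, add_zero, mul_pow, ← hs] at h
    simp [← hs]
    linear_combination h)
  have hB := four_coeff hm hF ![-(b ^ (s + 2)), L - d ^ s, -(b * d), P] (fun y => by
    have h := eqn 0 y
    simp only [hτ, corner_eq, mul_zero, zero_mul, zero_pow hs0, zero_pow (Nat.succ_ne_zero (s + 1) : s + 2 ≠ 0),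
      add_zero, zero_add, mul_pow, ← hs] at h
    simp [← hs]
    linear_combination h)
  have hLa : L = a ^ (s + 2) := sub_eq_zero.mp (by simpa using hA 0)
  have hcc : cc = 0 := by simpa [hs0] using hA 1
  have hQ : Q = 0 := by simpa using hA 3
  have hb : b = 0 := by simpa using hB 0
  have hLd : L = d ^ s := sub_eq_zero.mp (by simpa using hB 1)
  have hP : P = 0 := by simpa using hB 3
  have had : a * d = L := by
    have h := eqn 1 1
    simp only [hτ, corner_eq, hcc, hb, hP, hQ, zero_mul, add_zero, zero_add, mul_one, one_pow, ← hs] at h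
    rw [← hLa, ← hLd] at h
    linear_combination h.symm
  have hL0 : L ≠ 0 := by
    intro h0
    have : lam = 0 := by simpa [L, hmu0] using h0
    rw [this, zero_smul] at hlam
    exact hne (by simp) hlam.symm
  -- the torus parameter
  obtain ⟨w, hw⟩ := (Finite.injective_iff_surjective.mp (frobenius_inj F 2)) L
  rw [frobenius_def] at hw
  have hw0 : w ≠ 0 := fun h => hL0 (by rw [← hw, h]; simp)
  have hd : d = τ.th w := by
    apply τ.th.injective
    rw [τ.th_th, hw, hLd, hτ, th_eq]
  have ha : a = L / d := by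
    rw [← had, mul_div_assoc, div_self, mul_one]
    intro h0; rw [h0, mul_zero] at had; exact hL0 had.symm
  have hM' : ∀ i j, M i j = (mu * w) * tm τ (Units.mk0 w hw0) i j := by
    have hth : τ.th w ≠ 0 := fun h => hw0 (τ.th_inj h)
    have eb : M 2 1 = 0 := by simpa [b, hmu0] using hb
    have ec : M 1 2 = 0 := by simpa [cc, hmu0] using hcc
    have eP : M 0 1 = 0 := by simpa [P, hmu0] using hP
    have eQ : M 0 2 = 0 := by simpa [Q, hmu0] using hQ
    have ed : M 1 1 = mu * d := by simp only [d]; field_simp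
    have ea : M 2 2 = mu * a := by simp only [a]; field_simp
    have eL : M 0 0 = mu * L := by rw [e00]; simp only [L]; field_simp
    intro i j
    fin_cases i <;> fin_cases j <;>
      simp [tm, Matrix.diagonal, e10, e20, e30, e03, e13, e23, e33, e31, e32, eb, ec, eP, eQ, ed, ea, eL]
    · rw [← hw]; ring
    · rw [hd]; field_simp
    · rw [ha, hd, ← hw]; field_simp
    · field_simp
  have hdet : (mu * w) ^ 4 = 1 := by
    have h1 : M.det = 1 := g.2
    have h3 : M = (mu * w) • tm τ (Units.mk0 w hw0) := by ext i j; rw [hM', Matrix.smul_apply, smul_eq_mul]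
    have h4 : (tm τ (Units.mk0 w hw0)).det = 1 := det_eq_one (tS τ (Units.mk0 w hw0))
    rw [h3, Matrix.det_smul, h4, mul_one, Fintype.card_fin] at h1
    exact h1
  have hmw : mu * w = 1 := by
    have h1 : ((mu * w) ^ 2) ^ 2 = 1 ^ 2 := by rw [← pow_mul]; simpa using hdet
    have h1' : (mu * w) ^ 2 = 1 ^ 2 := by
      have := frobenius_inj F 2 (a₁ := (mu * w) ^ 2) (a₂ := 1) (by simpa [frobenius_def] using h1)
      simpa using this
    exact frobenius_inj F 2 (by simpa [frobenius_def] using h1')
  refine ⟨Units.mk0 w hw0, ?_⟩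
  apply Subtype.ext
  ext i j
  show M i j = tm τ (Units.mk0 w hw0) i j
  rw [hM', hmw, one_mul]

end Cfsg.Agent.SzO
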