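import Mathlib
import Cfsg.Agent.Lib.SzO.Fix

/-!
# The ovoid stabiliser is the Suzuki group
-/

set_option autoImplicit false

open scoped Matrix Pointwise

namespace Cfsg.Agent.SzO

open Cfsg.Agent.SzB

variable {F : Type*} [Field F] [Fintype F] [CharP F 2] {m : ℕ}

theorem stab_mem (hm : 1 ≤ m) (hF : Fintype.card F = 2 ^ (2 * m + 1))
    {g : Matrix.SpecialLinearGroup (Fin 4) F} (hg : g ∈ Cfsg.Sz F m)
    {p : Projectivization F (Fin 4 → F)} (hp : p ∈ Cfsg.suzukiOvoid F m) :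
    g • p ∈ Cfsg.suzukiOvoid F m := by
  have := hm
  have := hF
  have h : g • Cfsg.suzukiOvoid F m = Cfsg.suzukiOvoid F m := MulAction.mem_stabilizer_iff.mp hg
  rw [← h]
  exact Set.smul_mem_smul_set hp

theorem toSL_mem (hF : Fintype.card F = 2 ^ (2 * m + 1)) (x : Cfsg.Lie.Sz F (stdTwist hF).e) :
    toSL x ∈ Cfsg.Sz F m := by
  rw [MulAction.mem_stabilizer_iff, ovoid_eq hF, Set.smul_set_range]
  apply Set.eq_of_subset_of_subset
  · rintro _ ⟨g, rfl⟩; exact ⟨x * g, (smul_pt x g).symm⟩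
  · rintro _ ⟨g, rfl⟩; exact ⟨x⁻¹ * g, by show toSL x • pt _ = _; rw [smul_pt, mul_inv_cancel_left]⟩

theorem exists_preimage (hm : 1 ≤ m) (hF : Fintype.card F = 2 ^ (2 * m + 1))
    {g : Matrix.SpecialLinearGroup (Fin 4) F} (hg : g ∈ Cfsg.Sz F m) :
    ∃ x : Cfsg.Lie.Sz F (stdTwist hF).e, toSL x = g := by
  classical
  set τ := stdTwist hF
  have hmem : ∀ y : Cfsg.Lie.Sz F τ.e, pt y ∈ Cfsg.suzukiOvoid F m := fun y => by
    rw [ovoid_eq hF]; exact ⟨y, rfl⟩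
  obtain ⟨k, hk⟩ : g • pt (1 : Cfsg.Lie.Sz F τ.e) ∈ Set.range (pt (τ := τ)) := by
    rw [← ovoid_eq hF]; exact stab_mem hm hF hg (hmem 1)
  set g1 := toSL k⁻¹ * g with hg1
  have hg1m : g1 ∈ Cfsg.Sz F m := mul_mem (toSL_mem hF _) hg
  have hfix : g1 • pt (1 : Cfsg.Lie.Sz F τ.e) = pt (1 : Cfsg.Lie.Sz F τ.e) := by
    rw [hg1, mul_smul, ← hk, smul_pt, inv_mul_cancel]
  obtain ⟨l, hl⟩ : g1 • pt (wS τ) ∈ Set.range (pt (τ := τ)) := by
    rw [← ovoid_eq hF]; exact stab_mem hm hF hg1m (hmem _)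
  have hlB : l ∉ bor τ := by
    intro hl'
    have h1 : pt l = pt (1 : Cfsg.Lie.Sz F τ.e) := by rw [pt_eq_iff, inv_one, one_mul]; exact hl'
    rw [h1, ← hfix] at hl
    have h2 := MulAction.injective g1 hl
    rw [pt_eq_iff] at h2
    apply uw_not_mem τ 0 0
    rw [mul_one] at h2
    rw [uS_zero, one_mul]
    exact inv_mem_iff.mp h2
  obtain ⟨a, b, hab⟩ := exists_cell τ hlB
  set g2 := toSL (uS τ a b)⁻¹ * g1 with hg2
  have hg2m : g2 ∈ Cfsg.Sz F m := mul_mem (toSL_mem hF _) hg1m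
  have hf1 : g2 • pt (1 : Cfsg.Lie.Sz F τ.e) = pt (1 : Cfsg.Lie.Sz F τ.e) := by
    rw [hg2, mul_smul, hfix, smul_pt, mul_one, pt_eq_iff, inv_one, one_mul]
    exact inv_mem (uS_mem_bor τ a b)
  have hf2 : g2 • pt (wS τ) = pt (wS τ) := by
    rw [hg2, mul_smul, ← hl, smul_pt, pt_eq_iff]
    rw [mul_inv_rev, mul_assoc] at hab
    exact hab
  rw [pt_one] at hf1
  rw [pt_wS] at hf2
  obtain ⟨u, hu⟩ := fix_two hm hF g2 (fun p hp => stab_mem hm hF hg2m hp) hf1 hf2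
  refine ⟨k * uS τ a b * tS τ u, ?_⟩
  rw [map_mul, map_mul, ← hu, hg2, hg1, map_inv, map_inv]
  simp [mul_assoc]

/-- The ovoid stabiliser is the Suzuki group. -/
noncomputable def szEquiv (hm : 1 ≤ m) (hF : Fintype.card F = 2 ^ (2 * m + 1)) :
    Cfsg.Lie.Sz F (stdTwist hF).e ≃* ↥(Cfsg.Sz F m) :=
  MulEquiv.ofBijective ((toSL (τ := stdTwist hF)).codRestrict (Cfsg.Sz F m) (toSL_mem hF))
    ⟨fun _ _ h => toSL_injective (congrArg Subtype.val h), fun g => by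
      obtain ⟨x, hx⟩ := exists_preimage hm hF g.2
      exact ⟨x, Subtype.ext hx⟩⟩

theorem szEquiv_coe (hm : 1 ≤ m) (hF : Fintype.card F = 2 ^ (2 * m + 1))
    (x : Cfsg.Lie.Sz F (stdTwist hF).e) :
    ((szEquiv hm hF x : ↥(Cfsg.Sz F m)) : Matrix.SpecialLinearGroup (Fin 4) F) = toSL x := rfl

theorem szEquiv_smul (hm : 1 ≤ m) (hF : Fintype.card F = 2 ^ (2 * m + 1))
    (x y : Cfsg.Lie.Sz F (stdTwist hF).e) :
    szEquiv hm hF x • pt y = pt (x * y) := smul_pt x y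

theorem stab_point (hm : 1 ≤ m) (hF : Fintype.card F = 2 ^ (2 * m + 1)) :
    MulAction.stabilizer (Cfsg.Sz F m) (Cfsg.suzukiPointInfinity F) =
      (bor (stdTwist hF)).map (szEquiv hm hF).toMonoidHom := by
  ext g
  obtain ⟨x, rfl⟩ := (szEquiv hm hF).surjective g
  rw [MulAction.mem_stabilizer_iff, ← pt_one (τ := stdTwist hF), szEquiv_smul, mul_one, pt_eq_iff,
    inv_one, one_mul]
  exact ⟨fun h => ⟨x, h, rfl⟩, fun ⟨y, hy, e⟩ => (szEquiv hm hF).injective e ▸ hy⟩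

theorem stab_two (hm : 1 ≤ m) (hF : Fintype.card F = 2 ^ (2 * m + 1)) :
    MulAction.stabilizer (Cfsg.Sz F m) (Cfsg.suzukiPointInfinity F) ⊓
        MulAction.stabilizer (Cfsg.Sz F m) (Cfsg.suzukiPointZero F) =
      (((szEquiv hm hF).toMonoidHom).comp (tS (stdTwist hF))).range := by
  ext g
  constructor
  · rintro ⟨h1, h2⟩
    obtain ⟨u, hu⟩ := fix_two hm hF (g : Matrix.SpecialLinearGroup (Fin 4) F)
      (fun p hp => stab_mem hm hF g.2 hp) h1 h2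
    exact ⟨u, Subtype.ext hu.symm⟩
  · rintro ⟨u, rfl⟩
    set τ := stdTwist hF
    constructor
    · show szEquiv hm hF (tS τ u) • Cfsg.suzukiPointInfinity F = _
      rw [← pt_one (τ := τ), szEquiv_smul, mul_one, pt_eq_iff, inv_one, one_mul]
      exact tS_mem_bor τ u
    · show szEquiv hm hF (tS τ u) • Cfsg.suzukiPointZero F = _
      rw [← pt_wS (τ := τ), szEquiv_smul, pt_eq_iff]
      have hw : (wS τ)⁻¹ = wS τ := inv_eq_of_mul_eq_one_right (wS_sq τ)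
      rw [hw, ← mul_assoc, wS_tS]
      exact inv_mem (tS_mem_bor τ u)

theorem tS_injective (τ : Twist F) : Function.Injective (tS τ) := fun u v h => by
  have h0 := congrArg (fun g => colS τ g 0) h
  simp only [colS_tS_zero] at h0
  exact Units.ext h0

end Cfsg.Agent.SzO
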