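import Mathlib
import Cfsg.Agent.Lib.SzO.Equiv

/-!
# Sylow two-subgroups of the ovoid stabiliser
-/

set_option autoImplicit false

open scoped Matrix commutatorElement

namespace Cfsg.Agent.SzO

open Cfsg.Agent.SzB

variable {F : Type*} [Field F] [Fintype F] [CharP F 2] {m : ℕ}

theorem exists_syl_equiv (hm : 1 ≤ m) (hF : Fintype.card F = 2 ^ (2 * m + 1))
    (P : Sylow 2 ↥(Cfsg.Sz F m)) :
    ∃ Φ : Cfsg.Lie.Sz F (stdTwist hF).e ≃* ↥(Cfsg.Sz F m),
      (unip (stdTwist hF)).map Φ.toMonoidHom = (P : Subgroup ↥(Cfsg.Sz F m)) := by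
  haveI : Fact (Nat.Prime 2) := ⟨Nat.prime_two⟩
  set τ := stdTwist hF
  set φ := szEquiv hm hF
  let P' : Sylow 2 (Cfsg.Lie.Sz F τ.e) := P.comapOfInjective φ.toMonoidHom φ.injective
    (fun x _ => ⟨φ.symm x, φ.apply_symm_apply x⟩)
  obtain ⟨g, hg⟩ := MulAction.exists_smul_eq (Cfsg.Lie.Sz F τ.e) (sylTwo hF τ) P'
  refine ⟨(MulAut.conj g).trans φ, ?_⟩
  have hc : (P' : Subgroup (Cfsg.Lie.Sz F τ.e)) = (unip τ).map (MulAut.conj g).toMonoidHom := by
    rw [← hg, Sylow.coe_subgroup_smul, Subgroup.pointwise_smul_def, sylTwo_coe]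
    rfl
  rw [show ((MulAut.conj g).trans φ).toMonoidHom = φ.toMonoidHom.comp (MulAut.conj g).toMonoidHom from rfl,
    ← Subgroup.map_map, ← hc]
  exact Subgroup.map_comap_eq_self_of_surjective φ.surjective _

theorem th_mul_self_surj (τ : Twist F) {b : F} (hb : b ≠ 0) : ∃ a : F, τ.th a * a = b := by
  classical
  let f : Fˣ → Fˣ := fun u => Units.mk0 (τ.th (u : F) * u)
    (mul_ne_zero (fun h => u.ne_zero (τ.th_inj h)) u.ne_zero)
  have hinj : Function.Injective f := by
    intro u v h
    have h' : τ.th (u : F) * u = τ.th (v : F) * v := congrArg Units.val h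
    have key : ∀ x : F, x ≠ 0 → τ.th x * x = 1 → x = 1 := by
      intro x hx h1
      have h2 := congrArg τ.th h1
      rw [map_mul, τ.th_th, map_one] at h2
      have h3 : x * x = x := by linear_combination x * h2 - x ^ 2 * h1
      exact mul_left_cancel₀ hx (by rw [mul_one]; exact h3)
    have h4 := key ((u : F) / v) (div_ne_zero u.ne_zero v.ne_zero) (by
      have hv : τ.th (v : F) ≠ 0 := fun h => v.ne_zero (τ.th_inj h)
      have hv' := v.ne_zero
      rw [map_div₀]; field_simp; linear_combination h')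
    exact Units.ext ((div_eq_one_iff_eq v.ne_zero).mp h4)
  obtain ⟨u, hu⟩ := (Finite.injective_iff_surjective.mp hinj) (Units.mk0 b hb)
  exact ⟨u, congrArg Units.val hu⟩

theorem sylow_two (hm : 1 ≤ m) (hF : Fintype.card F = 2 ^ (2 * m + 1))
    (P : Sylow 2 ↥(Cfsg.Sz F m)) :
    Nat.card P = (2 ^ (2 * m + 1)) ^ 2 ∧ Monoid.exponent P = 4 ∧
      Subgroup.center P = commutator P ∧ Nat.card (Subgroup.center P) = 2 ^ (2 * m + 1) := by
  classical
  set τ := stdTwist hF
  obtain ⟨Φ, hΦ⟩ := exists_syl_equiv hm hF P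
  have hmem : ∀ a b : F, Φ (uS τ a b) ∈ (P : Subgroup ↥(Cfsg.Sz F m)) := fun a b =>
    hΦ ▸ Subgroup.mem_map_of_mem _ ⟨a, b, rfl⟩
  let E : F → F → ↥(P : Subgroup ↥(Cfsg.Sz F m)) := fun a b => ⟨Φ (uS τ a b), hmem a b⟩
  have Emul : ∀ a b c d, E a b * E c d = E (a + c) (b + d + τ.th a * c) := fun a b c d => by
    apply Subtype.ext
    show Φ (uS τ a b) * Φ (uS τ c d) = Φ _
    rw [← map_mul, uS_mul]
  have E0 : E 0 0 = 1 := Subtype.ext (by show Φ (uS τ 0 0) = 1; rw [uS_zero, map_one])
  have Einv : ∀ a b, (E a b)⁻¹ = E a (b + τ.th a * a) := fun a b => by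
    apply Subtype.ext
    show (Φ (uS τ a b))⁻¹ = Φ _
    rw [← map_inv, uS_inv]
  have Esurj : ∀ x : ↥(P : Subgroup ↥(Cfsg.Sz F m)), ∃ a b, E a b = x := by
    intro x
    obtain ⟨y, ⟨a, b, rfl⟩, hy⟩ := (hΦ.symm ▸ x.2 : (x : ↥(Cfsg.Sz F m)) ∈ (unip τ).map Φ.toMonoidHom)
    exact ⟨a, b, Subtype.ext hy⟩
  have Einj : ∀ a b c d, E a b = E c d → a = c ∧ b = d := fun a b c d h =>
    uS_inj τ (Φ.injective (congrArg Subtype.val h))
  have h2 : (2 : F) = 0 := CharTwo.two_eq_zero
  have Esq : ∀ a b, E a b ^ 2 = E 0 (τ.th a * a) := fun a b => by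
    rw [pow_two, Emul, CharTwo.add_self_eq_zero, CharTwo.add_self_eq_zero, zero_add]
  have hcentre : ∀ a b, E a b ∈ Subgroup.center P ↔ a = 0 := by
    intro a b
    rw [Subgroup.mem_center_iff]
    constructor
    · intro h
      have hc : ∀ c : F, τ.th c * a = τ.th a * c := fun c => by
        have := h (E c 0)
        rw [Emul, Emul] at this
        have := (Einj _ _ _ _ this).2
        linear_combination this
      have h1 : a = τ.th a := by simpa using hc 1
      obtain ⟨y, hy⟩ := exists_th_ne τ (exists_unit_ne hm hF)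
      by_contra ha
      apply hy
      have := hc y
      rw [← h1] at this
      exact mul_right_cancel₀ ha (by linear_combination this)
    · rintro rfl g
      obtain ⟨c, d, rfl⟩ := Esurj g
      rw [Emul, Emul]
      simp only [map_zero, zero_mul, mul_zero, add_zero, zero_add]
      rw [add_comm b d]
  have hcomm : ∀ b : F, E 0 b ∈ commutator P := by
    intro b
    by_cases hb : b = 0
    · rw [hb, E0]; exact one_mem _
    obtain ⟨z, hz⟩ := exists_th_ne τ (exists_unit_ne hm hF)
    have hz' : z + τ.th z ≠ 0 := fun h => hz (CharTwo.add_eq_zero.mp h).symm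
    obtain ⟨a, ha⟩ := th_mul_self_surj τ (div_ne_zero hb hz')
    have key : ⁅E a 0, E (a * z) 0⁆ = E 0 b := by
      rw [commutatorElement_def, Einv, Einv, Emul, Emul, Emul]
      have hb' : b = (τ.th a * a) * (z + τ.th z) := by rw [ha]; field_simp
      congr 1
      · linear_combination (a + a * z) * h2
      · rw [hb']
        simp only [map_add, map_mul]
        grind
    rw [← key]
    exact Subgroup.commutator_mem_commutator (Subgroup.mem_top _) (Subgroup.mem_top _)
  have hcle : commutator P ≤ Subgroup.center P := by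
    rw [commutator_def, Subgroup.commutator_le]
    intro x _ y _
    obtain ⟨a, b, rfl⟩ := Esurj x
    obtain ⟨c, d, rfl⟩ := Esurj y
    rw [commutatorElement_def, Einv, Einv, Emul, Emul, Emul, hcentre]
    linear_combination (a + c) * h2
  have hcard : Nat.card P = (2 ^ (2 * m + 1)) ^ 2 := by
    have e : Nat.card ((unip τ).map Φ.toMonoidHom) = Nat.card (unip τ) :=
      Subgroup.card_map_of_injective Φ.injective
    rw [hΦ, card_unip, hF] at e
    exact e
  refine ⟨hcard, ?_, le_antisymm (fun x hx => ?_) hcle, ?_⟩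
  · have h4 : Monoid.exponent P ∣ 4 := Monoid.exponent_dvd_of_forall_pow_eq_one (fun x => by
      obtain ⟨a, b, rfl⟩ := Esurj x
      have e4 : E a b ^ 4 = (E a b ^ 2) ^ 2 := by rw [← pow_mul]
      rw [e4, Esq, Esq, map_zero, zero_mul, E0])
    have h2' : ¬ Monoid.exponent P ∣ 2 := fun h => by
      have := Monoid.exponent_dvd_iff_forall_pow_eq_one.mp h (E 1 0)
      rw [Esq, map_one, one_mul, ← E0] at this
      exact one_ne_zero (Einj _ _ _ _ this).2
    have hle := Nat.le_of_dvd (by norm_num) h4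
    interval_cases hx : Monoid.exponent P <;> omega
  · obtain ⟨a, b, rfl⟩ := Esurj x
    rw [hcentre] at hx
    subst hx
    exact hcomm b
  · let e : F → Subgroup.center P := fun b => ⟨E 0 b, (hcentre 0 b).mpr rfl⟩
    have he : Function.Bijective e := by
      refine ⟨fun b c h => (Einj _ _ _ _ (congrArg Subtype.val h)).2, ?_⟩
      rintro ⟨x, hx⟩
      obtain ⟨a, b, rfl⟩ := Esurj x
      rw [hcentre] at hx
      subst hx
      exact ⟨b, rfl⟩
    rw [← Nat.card_congr (Equiv.ofBijective e he), Nat.card_eq_fintype_card, hF]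

theorem real_iff (hm : 1 ≤ m) (hF : Fintype.card F = 2 ^ (2 * m + 1))
    (P : Sylow 2 ↥(Cfsg.Sz F m)) (g : ↥(Cfsg.Sz F m))
    (hg : g ∈ (P : Subgroup ↥(Cfsg.Sz F m))) (h1 : g ≠ 1) :
    IsConj g g⁻¹ ↔ orderOf g = 2 := by
  classical
  set τ := stdTwist hF
  have h2 : (2 : F) = 0 := CharTwo.two_eq_zero
  obtain ⟨Φ, hΦ⟩ := exists_syl_equiv hm hF P
  rw [← hΦ] at hg
  obtain ⟨_, ⟨a, b, rfl⟩, rfl⟩ := hg
  have hsq : uS τ a b ^ 2 = uS τ 0 (τ.th a * a) := by
    rw [pow_two, uS_mul, CharTwo.add_self_eq_zero, CharTwo.add_self_eq_zero, zero_add]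
  constructor
  · intro hc
    have hc' : IsConj (uS τ a b) (uS τ a b)⁻¹ := by
      have := Φ.symm.toMonoidHom.map_isConj hc
      simpa using this
    obtain ⟨x, hx⟩ := isConj_iff.mp hc'
    have ha : a = 0 := by
      by_contra ha
      rw [uS_inv] at hx
      have hxB : x ∈ bor τ := by
        by_contra hxB
        obtain ⟨c, d, hcd⟩ := exists_cell τ hxB
        have hu : x⁻¹ * uS τ a (b + τ.th a * a) * x ∈ bor τ := by
          rw [← hx]; simpa [mul_assoc] using uS_mem_bor τ a b
        set y := (uS τ c d * wS τ)⁻¹ * x with hy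
        have hxe : x = uS τ c d * wS τ * y := by rw [hy, mul_inv_cancel_left]
        have hw : (wS τ)⁻¹ = wS τ := inv_eq_of_mul_eq_one_right (wS_sq τ)
        rw [hxe] at hu
        have hu2 : wS τ * ((uS τ c d)⁻¹ * uS τ a (b + τ.th a * a) * uS τ c d) * wS τ ∈ bor τ := by
          have := mul_mem (mul_mem hcd hu) (inv_mem hcd)
          simpa [mul_assoc, hw] using this
        rw [uS_inv, uS_mul, uS_mul] at hu2
        rw [uS] at hu2
        simp only [mul_assoc, wS_sq, mul_one] at hu2
        rw [← mul_assoc, wS_sq, one_mul] at hu2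
        have := (lS_mem_bor τ hu2).1
        apply ha
        linear_combination this - c * h2
      obtain ⟨u, c, d, rfl⟩ := (mem_bor_iff τ).mp hxB
      have hd := tS_uS τ u a (b + d + τ.th c * a + (d + τ.th c * c) + τ.th (c + a) * c)
      have hx' : tS τ u * (uS τ c d * uS τ a b * (uS τ c d)⁻¹) * (tS τ u)⁻¹ =
          uS τ a (b + τ.th a * a) := by rw [← hx]; simp [mul_assoc]
      rw [uS_inv, uS_mul, uS_mul, show c + a + c = a by linear_combination c * h2, tS_uS] at hx'
      obtain ⟨e1, e2⟩ := uS_inj τ hx'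
      have hu : u = 1 := by
        have : τ.th ((u⁻¹ : Fˣ) : F) / ((u⁻¹ : Fˣ) : F) ^ 2 = 1 := by
          apply mul_left_cancel₀ ha
          rw [mul_one, ← mul_div_assoc]; exact e1
        exact inv_eq_one.mp (chi_inj τ this)
      subst hu
      simp only [inv_one, Units.val_one, map_one, one_pow, div_one, map_add] at e2
      have e3 : τ.th c * a + τ.th a * c = τ.th a * a := by grind
      have hta : τ.th a ≠ 0 := fun h => ha (τ.th_inj h)
      have e4 : τ.th (c / a) + c / a = 1 := by rw [map_div₀]; field_simp; linear_combination e3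
      have e5 := congrArg τ.th e4
      rw [map_add, τ.th_th, map_one] at e5
      have e6 : (c / a) * (c / a) = c / a := by
        linear_combination e5 - e4 + (c / a) * h2 - (c / a) * h2
      rcases mul_eq_zero.mp (show (c / a) * (c / a - 1) = 0 by linear_combination e6) with h | h
      · rw [h, map_zero, add_zero] at e4; exact zero_ne_one e4
      · rw [sub_eq_zero.mp h, map_one] at e4
        exact zero_ne_one (by linear_combination e4 - h2)
    subst ha
    apply orderOf_eq_prime ?_ h1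
    rw [← map_pow, hsq, map_zero, zero_mul, uS_zero, map_one]
  · intro ho
    have hs := pow_orderOf_eq_one (Φ.toMonoidHom (uS τ a b))
    rw [ho, pow_two] at hs
    rw [inv_eq_of_mul_eq_one_right hs]

end Cfsg.Agent.SzO
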