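import Mathlib
import Cfsg.Agent.Lib.SzO.Sylow

/-!
# The point stabiliser is maximal, and two generators
-/

set_option autoImplicit false

open scoped Matrix commutatorElement

namespace Cfsg.Agent.SzO

open Cfsg.Agent.SzB

variable {F : Type*} [Field F] [Fintype F] [CharP F 2] {m : ℕ}

theorem eq_top_of_unip_lS (τ : Twist F) (hq : ∃ u : Fˣ, u ≠ 1) (H : Subgroup (Cfsg.Lie.Sz F τ.e))
    (hU : unip τ ≤ H) (hL : ∀ a b, lS τ a b ∈ H) : H = ⊤ := by
  classical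
  have hlS : ∀ u : Fˣ, ∀ a b, ∃ a' b', tS τ u * lS τ a b * (tS τ u)⁻¹ = lS τ a' b' :=
    fun u a b => ⟨_, _, tS_lS τ u a b⟩
  set S : Set (Cfsg.Lie.Sz F τ.e) := (unip τ : Set _) ∪ {x | ∃ a b, x = lS τ a b} with hS
  set K := Subgroup.closure S with hK
  have hKH : K ≤ H := (Subgroup.closure_le H).mpr (Set.union_subset hU (by rintro _ ⟨a, b, rfl⟩; exact hL a b))
  have conjS : ∀ g : Cfsg.Lie.Sz F τ.e, (∀ x ∈ S, g * x * g⁻¹ ∈ K) → ∀ x ∈ K, g * x * g⁻¹ ∈ K := by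
    intro g hg x hx
    have : K.map (MulAut.conj g).toMonoidHom ≤ K := by
      rw [hK, MonoidHom.map_closure, Subgroup.closure_le]
      rintro _ ⟨y, hy, rfl⟩
      exact hg y hy
    exact this (Subgroup.mem_map_of_mem _ hx)
  have hw2 : (wS τ)⁻¹ = wS τ := inv_eq_of_mul_eq_one_right (wS_sq τ)
  have hwc : ∀ x ∈ K, wS τ * x * (wS τ)⁻¹ ∈ K := by
    apply conjS
    intro x hx
    rw [hw2]
    apply Subgroup.subset_closure
    rcases hx with ⟨a, b, rfl⟩ | ⟨a, b, rfl⟩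
    · refine Or.inr ⟨a, b, ?_⟩
      rw [uS]
      simp only [mul_assoc, wS_sq, mul_one]
      rw [← mul_assoc, wS_sq, one_mul]
    · exact Or.inl ⟨a, b, rfl⟩
  have hTc : ∀ u, ∀ x ∈ K, tS τ u * x * (tS τ u)⁻¹ ∈ K := fun u => by
    apply conjS
    intro x hx
    apply Subgroup.subset_closure
    rcases hx with hx | ⟨a, b, rfl⟩
    · exact Or.inl (tS_conj_unip τ u hx)
    · exact Or.inr (hlS u a b)
  have hUc : ∀ a b, ∀ x ∈ K, uS τ a b * x * (uS τ a b)⁻¹ ∈ K := fun a b x hx =>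
    have h : uS τ a b ∈ K := Subgroup.subset_closure (Or.inl ⟨a, b, rfl⟩)
    mul_mem (mul_mem h hx) (inv_mem h)
  haveI : K.Normal := by
    refine ⟨fun x hx g => ?_⟩
    have hB : ∀ g ∈ bor τ, ∀ x ∈ K, g * x * g⁻¹ ∈ K := by
      intro g hg x hx
      obtain ⟨u, a, b, rfl⟩ := (mem_bor_iff τ).mp hg
      have := hTc u _ (hUc a b x hx)
      simpa [mul_assoc] using this
    by_cases hg : g ∈ bor τ
    · exact hB g hg x hx
    · obtain ⟨a, b, h⟩ := exists_cell τ hg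
      have h2 := hUc a b _ (hwc _ (hB _ h x hx))
      have e : g = uS τ a b * wS τ * ((uS τ a b * wS τ)⁻¹ * g) := by group
      set y := (uS τ a b * wS τ)⁻¹ * g
      rw [e]
      simpa [mul_assoc] using h2
  haveI := Cfsg.Agent.SzB.simple τ hq
  rcases (inferInstance : K.Normal).eq_bot_or_eq_top with h | h
  · exfalso
    have : uS τ 1 0 ∈ K := Subgroup.subset_closure (Or.inl ⟨1, 0, rfl⟩)
    rw [h, Subgroup.mem_bot, ← uS_zero τ] at this
    exact one_ne_zero (uS_inj τ this).1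
  · exact top_le_iff.mp (h ▸ hKH)

theorem eq_top_of_unip_not_le (τ : Twist F) (hq : ∃ u : Fˣ, u ≠ 1) (H : Subgroup (Cfsg.Lie.Sz F τ.e))
    (hU : unip τ ≤ H) (hB : ¬ H ≤ bor τ) : H = ⊤ := by
  classical
  obtain ⟨g, hgH, hgB⟩ := SetLike.not_le_iff_exists.mp hB
  obtain ⟨a, b, h⟩ := exists_cell τ hgB
  obtain ⟨u, c, d, hu⟩ := (mem_bor_iff τ).mp h
  rw [inv_mul_eq_iff_eq_mul] at hu
  have hwt : wS τ * tS τ u ∈ H := by
    have := mul_mem (mul_mem (inv_mem (hU ⟨a, b, rfl⟩)) hgH) (inv_mem (hU ⟨c, d, rfl⟩))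
    rw [hu] at this
    simpa [mul_assoc] using this
  -- the lower unipotent group is a conjugate
  have hL : ∀ a b, lS τ a b ∈ H := by
    intro a b
    have e : tS τ u * ((tS τ u)⁻¹ * uS τ a b * tS τ u) * (tS τ u)⁻¹ = uS τ a b := by group
    have hm : (tS τ u)⁻¹ * uS τ a b * tS τ u ∈ unip τ := by
      have := tS_conj_unip τ u⁻¹ (⟨a, b, rfl⟩ : uS τ a b ∈ unip τ)
      simpa using this
    have := mul_mem (mul_mem hwt (hU hm)) (inv_mem hwt)
    rw [mul_inv_rev, inv_eq_of_mul_eq_one_right (wS_sq τ)] at this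
    have e2 : wS τ * uS τ a b * wS τ = lS τ a b := by
      rw [uS]
      simp only [mul_assoc, wS_sq, mul_one]
      rw [← mul_assoc, wS_sq, one_mul]
    rw [← e2]
    simpa [mul_assoc] using this
  exact eq_top_of_unip_lS τ hq H hU hL

theorem maximal_normalizer (hm : 1 ≤ m) (hF : Fintype.card F = 2 ^ (2 * m + 1))
    (P : Sylow 2 ↥(Cfsg.Sz F m)) :
    IsCoatom (Subgroup.normalizer ((P : Subgroup ↥(Cfsg.Sz F m)) : Set ↥(Cfsg.Sz F m))) ∧
    ∀ M : Subgroup ↥(Cfsg.Sz F m), IsCoatom M → (P : Subgroup ↥(Cfsg.Sz F m)) ≤ M →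
      M = Subgroup.normalizer ((P : Subgroup ↥(Cfsg.Sz F m)) : Set ↥(Cfsg.Sz F m)) := by
  classical
  set τ := stdTwist hF
  obtain ⟨Φ, hΦ⟩ := exists_syl_equiv hm hF P
  have hN : Subgroup.normalizer ((P : Subgroup ↥(Cfsg.Sz F m)) : Set ↥(Cfsg.Sz F m)) =
      (bor τ).map Φ.toMonoidHom := by
    rw [← normalizer_unip τ, ← hΦ, Subgroup.map_equiv_normalizer_eq]
  have hne : (bor τ).map Φ.toMonoidHom ≠ ⊤ := by
    intro h
    apply uw_not_mem τ 0 0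
    obtain ⟨y, hy, e⟩ := (h ▸ Subgroup.mem_top (Φ (uS τ 0 0 * wS τ)) :
      Φ (uS τ 0 0 * wS τ) ∈ (bor τ).map Φ.toMonoidHom)
    exact Φ.injective e ▸ hy
  have key : ∀ M : Subgroup ↥(Cfsg.Sz F m), (P : Subgroup ↥(Cfsg.Sz F m)) ≤ M →
      M ≤ (bor τ).map Φ.toMonoidHom ∨ M = ⊤ := by
    intro M hM
    have hU : unip τ ≤ M.comap Φ.toMonoidHom := fun x hx => hM (hΦ ▸ Subgroup.mem_map_of_mem _ hx)
    by_cases hB : M.comap Φ.toMonoidHom ≤ bor τ
    · left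
      intro g hg
      obtain ⟨x, rfl⟩ := Φ.surjective g
      exact Subgroup.mem_map_of_mem _ (hB hg)
    · right
      have := eq_top_of_unip_not_le τ (exists_unit_ne hm hF) _ hU hB
      rw [eq_top_iff]
      intro g _
      obtain ⟨x, rfl⟩ := Φ.surjective g
      exact (this ▸ Subgroup.mem_top x : x ∈ M.comap Φ.toMonoidHom)
  have hPN : (P : Subgroup ↥(Cfsg.Sz F m)) ≤ (bor τ).map Φ.toMonoidHom :=
    hΦ ▸ Subgroup.map_mono (unip_le_bor τ)
  rw [hN]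
  refine ⟨⟨hne, fun M hM => ?_⟩, fun M hM hP => ?_⟩
  · rcases key M (hPN.trans hM.le) with h | h
    · exact absurd h hM.not_ge
    · exact h
  · rcases key M hP with h | h
    · exact (hM.le_iff.mp h).resolve_left hne |>.symm
    · exact absurd h hM.ne_top

theorem two_generated (hm : 1 ≤ m) (hF : Fintype.card F = 2 ^ (2 * m + 1)) :
    ∃ a b : ↥(Cfsg.Sz F m), Subgroup.closure ({a, b} : Set ↥(Cfsg.Sz F m)) = ⊤ := by
  classical
  set τ := stdTwist hF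
  have hq := exists_unit_ne hm hF
  obtain ⟨ν, hν⟩ := IsCyclic.exists_generator (α := Fˣ)
  set φ := szEquiv hm hF
  have h2 : (2 : F) = 0 := CharTwo.two_eq_zero
  refine ⟨φ (tS τ ν), φ (uS τ 1 0 * wS τ), ?_⟩
  suffices h : Subgroup.closure ({tS τ ν, uS τ 1 0 * wS τ} : Set (Cfsg.Lie.Sz F τ.e)) = ⊤ by
    have := congrArg (Subgroup.map φ.toMonoidHom) h
    rw [MonoidHom.map_closure, Subgroup.map_top_of_surjective φ.toMonoidHom φ.surjective, Set.image_pair] at this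
    exact this
  set H := Subgroup.closure ({tS τ ν, uS τ 1 0 * wS τ} : Set (Cfsg.Lie.Sz F τ.e))
  have hT : ∀ u, tS τ u ∈ H := by
    intro u
    obtain ⟨k, hk⟩ := Subgroup.mem_zpowers_iff.mp (hν u)
    rw [← hk, map_zpow]
    have hν' : tS τ ν ∈ H := Subgroup.subset_closure (Set.mem_insert _ _)
    exact H.zpow_mem hν' k
  have hg : uS τ 1 0 * wS τ ∈ H := Subgroup.subset_closure (Set.mem_insert_of_mem _ rfl)
  have hw : (wS τ)⁻¹ = wS τ := inv_eq_of_mul_eq_one_right (wS_sq τ)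
  have hT' : ∀ u, uS τ 1 0 * tS τ u * (uS τ 1 0)⁻¹ ∈ H := by
    intro u
    have := mul_mem (mul_mem hg (hT u⁻¹)) (inv_mem hg)
    have e : uS τ 1 0 * wS τ * tS τ u⁻¹ * (uS τ 1 0 * wS τ)⁻¹ =
        uS τ 1 0 * (wS τ * tS τ u⁻¹ * wS τ) * (uS τ 1 0)⁻¹ := by
      rw [mul_inv_rev, hw]; simp only [mul_assoc]
    rw [e, wS_tS, map_inv, inv_inv] at this
    exact this
  -- elements of the unipotent group in the subgroup, by first coordinate
  let A : Set F := {a | ∃ b, uS τ a b ∈ H}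
  have hscale : ∀ a ∈ A, ∀ c : F, c ≠ 0 → a * c ∈ A := by
    rintro a ⟨b, hb⟩ c hc
    obtain ⟨v, hv⟩ := chi_surj τ hc
    refine ⟨b / τ.th (v : F), ?_⟩
    have := mul_mem (mul_mem (hT v⁻¹) hb) (inv_mem (hT v⁻¹))
    rw [tS_uS, inv_inv, mul_div_assoc, hv] at this
    exact this
  obtain ⟨u0, hu0⟩ := hq
  obtain ⟨s, hs⟩ : ∃ s : F, s ≠ 0 ∧ s ∈ A := by
    set t := tS τ u0
    set X := uS τ 1 0
    have hcm : t * (X * t * X⁻¹) * t⁻¹ * (X * t * X⁻¹)⁻¹ ∈ H :=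
      mul_mem (mul_mem (mul_mem (hT u0) (hT' u0)) (inv_mem (hT u0))) (inv_mem (hT' u0))
    set z := τ.th ((u0⁻¹ : Fˣ) : F) / ((u0⁻¹ : Fˣ) : F) ^ 2 with hz
    have hd : ∀ a b, ∃ b', t * uS τ a b * t⁻¹ = uS τ (a * z) b' := fun a b =>
      ⟨_, by rw [tS_uS, hz, mul_div_assoc]⟩
    obtain ⟨b1, h1⟩ := hd 1 0
    obtain ⟨b2, h2'⟩ := hd 1 (0 + τ.th 1 * 1)
    have e : t * (X * t * X⁻¹) * t⁻¹ * (X * t * X⁻¹)⁻¹ =
        (t * X * t⁻¹) * (t * (t * X⁻¹ * t⁻¹) * X * t⁻¹) * X⁻¹ := by group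
    obtain ⟨b3, h3⟩ := hd (z + 1) (b2 + 0 + τ.th z * 1)
    have e' : t * (t * X⁻¹ * t⁻¹) * X * t⁻¹ = uS τ ((z + 1) * z) b3 := by
      rw [show X⁻¹ = uS τ 1 (0 + τ.th 1 * 1) from uS_inv τ 1 0, h2', one_mul, mul_assoc t, uS_mul, h3]
    rw [e, h1, e', one_mul, uS_inv, uS_mul, uS_mul] at hcm
    refine ⟨z + (z + 1) * z + 1, ?_, _, hcm⟩
    have hz1 : z ≠ 1 := fun h => hu0 (inv_eq_one.mp (chi_inj τ h))
    intro h0
    apply hz1
    have : (z - 1) ^ 2 = 0 := by linear_combination h0 - 2 * z * h2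
    exact sub_eq_zero.mp (pow_eq_zero_iff two_ne_zero |>.mp this)
  have hAll : ∀ a, a ≠ 0 → a ∈ A := fun a ha => by
    have := hscale s hs.2 (a / s) (div_ne_zero ha hs.1)
    rwa [mul_div_cancel₀ _ hs.1] at this
  have hZ : ∀ b, uS τ 0 b ∈ H := by
    intro b
    by_cases hb : b = 0
    · rw [hb, uS_zero]; exact one_mem _
    obtain ⟨a, ha⟩ := th_mul_self_surj τ hb
    have ha0 : a ≠ 0 := fun h => hb (by rw [← ha, h, mul_zero])
    obtain ⟨c, hc⟩ := hAll a ha0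
    have := mul_mem hc hc
    rwa [uS_mul, CharTwo.add_self_eq_zero, CharTwo.add_self_eq_zero, zero_add, ha] at this
  have hU : unip τ ≤ H := by
    rintro _ ⟨a, b, rfl⟩
    by_cases ha : a = 0
    · subst ha; exact hZ b
    obtain ⟨c, hc⟩ := hAll a ha
    have := mul_mem hc (hZ (c + b))
    rw [uS_mul, add_zero, mul_zero, add_zero, ← add_assoc, CharTwo.add_self_eq_zero, zero_add] at this
    exact this
  refine eq_top_of_unip_not_le τ ⟨u0, hu0⟩ H hU (fun h => uw_not_mem τ 1 0 (h hg))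

end Cfsg.Agent.SzO
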