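import Mathlib
import Cfsg.Prelude.Def_Transfer
import Cfsg.Agent.Lib.SzO.Maximal

/-!
# Trivial-intersection elementary abelian two-subgroups
-/

set_option autoImplicit false

open scoped Matrix

namespace Cfsg.Agent.SzO

open Cfsg.Agent.SzB

variable {F : Type*} [Field F] [Fintype F] [CharP F 2] {m : ℕ}

theorem mem_bor_of_fixes (τ : Twist F) {x y : Cfsg.Lie.Sz F τ.e} (hy : y ∈ unip τ) (hy1 : y ≠ 1)
    (hxy : x⁻¹ * y * x ∈ bor τ) : x ∈ bor τ := by
  by_contra hxB
  obtain ⟨a, b, rfl⟩ := hy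
  obtain ⟨c, d, hcd⟩ := exists_cell τ hxB
  set z := (uS τ c d * wS τ)⁻¹ * x with hz
  have hxe : x = uS τ c d * wS τ * z := by rw [hz, mul_inv_cancel_left]
  have hw : (wS τ)⁻¹ = wS τ := inv_eq_of_mul_eq_one_right (wS_sq τ)
  rw [hxe] at hxy
  have hu : wS τ * ((uS τ c d)⁻¹ * uS τ a b * uS τ c d) * wS τ ∈ bor τ := by
    have := mul_mem (mul_mem hcd hxy) (inv_mem hcd)
    simpa [mul_assoc, hw] using this
  have hne : (uS τ c d)⁻¹ * uS τ a b * uS τ c d ≠ 1 := fun h => hy1 (by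
    calc uS τ a b = uS τ c d * ((uS τ c d)⁻¹ * uS τ a b * uS τ c d) * (uS τ c d)⁻¹ := by group
      _ = 1 := by rw [h]; group)
  rw [uS_inv, uS_mul, uS_mul] at hu hne
  set p := c + a + c
  set q := d + τ.th c * c + b + τ.th c * a + d + τ.th (c + a) * c
  rw [uS] at hu
  simp only [mul_assoc, wS_sq, mul_one] at hu
  rw [← mul_assoc, wS_sq, one_mul] at hu
  obtain ⟨hp, hq⟩ := lS_mem_bor τ hu
  exact hne (by rw [hp, hq, uS_zero])

theorem sq_eq_one (τ : Twist F) {a b : F} (h : uS τ a b ^ 2 = 1) : a = 0 := by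
  rw [pow_two, uS_mul, CharTwo.add_self_eq_zero, CharTwo.add_self_eq_zero, zero_add, ← uS_zero τ] at h
  by_contra ha
  exact (mul_ne_zero (fun h => ha (τ.th_inj h)) ha) (uS_inj τ h).2

theorem ti_elementary (hm : 1 ≤ m) (hF : Fintype.card F = 2 ^ (2 * m + 1)) (n : ℕ) (hn : 2 ≤ n) :
    (∃ E : Subgroup ↥(Cfsg.Sz F m), Cfsg.IsElementaryAbelian 2 E ∧ Nat.card ↥E = 2 ^ n ∧
      ∀ x : ↥(Cfsg.Sz F m), E ⊓ E.map (MulAut.conj x).toMonoidHom ≠ ⊥ →
        x ∈ Subgroup.normalizer (E : Set ↥(Cfsg.Sz F m))) ↔ n ∣ 2 * m + 1 := by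
  classical
  haveI : Fact (Nat.Prime 2) := ⟨Nat.prime_two⟩
  set τ := stdTwist hF
  have h2 : (2 : F) = 0 := CharTwo.two_eq_zero
  constructor
  · rintro ⟨E, ⟨hab, hexp⟩, hcard, hti⟩
    have hEp : IsPGroup 2 E := IsPGroup.of_card hcard
    obtain ⟨P, hP⟩ := hEp.exists_le_sylow
    obtain ⟨Φ, hΦ⟩ := exists_syl_equiv hm hF P
    have hEz : ∀ e ∈ E, ∃ b, e = Φ (uS τ 0 b) := by
      intro e he
      obtain ⟨_, ⟨a, b, rfl⟩, rfl⟩ := (hΦ.symm ▸ hP he : e ∈ (unip τ).map Φ.toMonoidHom)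
      have h := hexp _ he
      rw [← map_pow] at h
      have ha := sq_eq_one τ (Φ.injective (h.trans (map_one _).symm))
      subst ha
      exact ⟨b, rfl⟩
    let S : AddSubgroup F :=
      { carrier := {b | Φ (uS τ 0 b) ∈ E}
        zero_mem' := by show Φ (uS τ 0 0) ∈ E; rw [uS_zero, map_one]; exact one_mem _
        add_mem' := fun {b c} hb hc => by
          show Φ (uS τ 0 (b + c)) ∈ E
          have := E.mul_mem (show Φ (uS τ 0 b) ∈ E from hb) (show Φ (uS τ 0 c) ∈ E from hc)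
          rwa [← map_mul, uS_mul, add_zero, map_zero, zero_mul, add_zero] at this
        neg_mem' := fun {b} hb => by rwa [CharTwo.neg_eq] }
    have hScard : Nat.card S = 2 ^ n := by
      rw [← hcard]
      refine Nat.card_congr (Equiv.ofBijective
        (fun b : S => (⟨Φ (uS τ 0 (b : F)), b.2⟩ : E)) ⟨?_, ?_⟩)
      · intro b c h
        exact Subtype.ext (uS_inj τ (Φ.injective (congrArg Subtype.val h))).2
      · rintro ⟨e, he⟩
        obtain ⟨b, rfl⟩ := hEz e he
        exact ⟨⟨b, he⟩, rfl⟩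
    have htS : ∀ c : F, c ≠ 0 → ∀ b ∈ S, b ≠ 0 → c * b ∈ S → ∀ b' ∈ S, c * b' ∈ S := by
      intro c hc b hb hb0 hcb b' hb'
      obtain ⟨w, hw⟩ := th_surj τ c
      have hw0 : w ≠ 0 := fun h => hc (by rw [← hw, h, map_zero])
      have hconj : ∀ t, tS τ (Units.mk0 w hw0) * uS τ 0 t * (tS τ (Units.mk0 w hw0))⁻¹ = uS τ 0 (c * t) := by
        intro t
        rw [tS_uS, zero_mul, zero_div, Units.val_inv_eq_inv_val, Units.val_mk0, map_inv₀, hw, div_inv_eq_mul,
          mul_comm t c]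
      have hΦc : ∀ t, Φ (tS τ (Units.mk0 w hw0)) * Φ (uS τ 0 t) * (Φ (tS τ (Units.mk0 w hw0)))⁻¹ =
          Φ (uS τ 0 (c * t)) := fun t => by rw [← map_inv, ← map_mul, ← map_mul, hconj]
      have hN := hti (Φ (tS τ (Units.mk0 w hw0))) (by
        intro hbot
        have hmem : Φ (uS τ 0 (c * b)) ∈ E ⊓ E.map (MulAut.conj (Φ (tS τ (Units.mk0 w hw0)))).toMonoidHom :=
          ⟨hcb, Φ (uS τ 0 b), hb, hΦc b⟩
        rw [hbot, Subgroup.mem_bot, ← map_one Φ, ← uS_zero τ] at hmem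
        exact mul_ne_zero hc hb0 (uS_inj τ (Φ.injective hmem)).2)
      show Φ (uS τ 0 (c * b')) ∈ E
      rw [← hΦc]
      exact (Subgroup.mem_normalizer_iff.mp hN _).mp hb'
    obtain ⟨s, hs, hs0⟩ : ∃ s ∈ S, s ≠ 0 := by
      by_contra hcon
      push Not at hcon
      have : S = ⊥ := (AddSubgroup.eq_bot_iff_forall _).mpr hcon
      rw [this, AddSubgroup.card_bot] at hScard
      have := Nat.one_lt_two_pow (show n ≠ 0 by omega)
      omega
    let K : Subfield F :=
      { carrier := {k | k * s ∈ S}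
        zero_mem' := by show (0 : F) * s ∈ S; rw [zero_mul]; exact S.zero_mem
        one_mem' := by show (1 : F) * s ∈ S; rw [one_mul]; exact hs
        add_mem' := fun {k l} hk hl => by show (k + l) * s ∈ S; rw [add_mul]; exact S.add_mem hk hl
        neg_mem' := fun {k} hk => by show -k * s ∈ S; rw [CharTwo.neg_eq]; exact hk
        mul_mem' := fun {k l} hk hl => by
          show (k * l) * s ∈ S
          by_cases hk0 : k = 0
          · rw [hk0, zero_mul, zero_mul]; exact S.zero_mem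
          · rw [mul_assoc]; exact htS k hk0 s hs hs0 hk _ hl
        inv_mem' := fun k hk => by
          show k⁻¹ * s ∈ S
          by_cases hk0 : k = 0
          · rw [hk0, inv_zero, zero_mul]; exact S.zero_mem
          · have h' : k⁻¹ * (k * s) = s := by rw [inv_mul_cancel_left₀ hk0]
            exact htS k⁻¹ (inv_ne_zero hk0) (k * s) hk (mul_ne_zero hk0 hs0) (by rw [h']; exact hs) s hs }
    have hKcard : Nat.card K = 2 ^ n := by
      rw [← hScard]
      refine Nat.card_congr (Equiv.ofBijective (fun k : K => (⟨(k : F) * s, k.2⟩ : S)) ⟨?_, ?_⟩)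
      · intro k l h
        exact Subtype.ext (mul_right_cancel₀ hs0 (congrArg Subtype.val h))
      · rintro ⟨b, hb⟩
        exact ⟨⟨b / s, by show b / s * s ∈ S; rwa [div_mul_cancel₀ _ hs0]⟩, Subtype.ext (div_mul_cancel₀ b hs0)⟩
    have hpow := Module.natCard_eq_pow_finrank (K := K) (V := F)
    rw [Nat.card_eq_fintype_card, hF, hKcard, ← pow_mul] at hpow
    exact ⟨_, Nat.pow_right_injective le_rfl hpow⟩
  · intro hdvd
    set φ := szEquiv hm hF
    let K : Subfield F :=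
      { carrier := {b | b ^ 2 ^ n = b}
        zero_mem' := zero_pow (by positivity)
        one_mem' := one_pow _
        add_mem' := fun {b c} hb hc => by
          show (b + c) ^ 2 ^ n = b + c
          rw [add_pow_char_pow, hb, hc]
        neg_mem' := fun {b} hb => by show (-b) ^ 2 ^ n = -b; rw [CharTwo.neg_eq]; exact hb
        mul_mem' := fun {b c} hb hc => by show (b * c) ^ 2 ^ n = b * c; rw [mul_pow, hb, hc]
        inv_mem' := fun b hb => by show b⁻¹ ^ 2 ^ n = b⁻¹; rw [inv_pow, hb] }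
    have hKcard : Nat.card K = 2 ^ n := by
      have hd : 2 ^ n - 1 ∣ Nat.card Fˣ := by
        rw [Nat.card_eq_fintype_card, Fintype.card_units, hF]
        exact Nat.pow_sub_one_dvd_pow_sub_one 2 hdvd
      have hroots : Nat.card (powMonoidHom (2 ^ n - 1) : Fˣ →* Fˣ).ker = 2 ^ n - 1 :=
        (IsCyclic.card_powMonoidHom_ker Fˣ _).trans (Nat.gcd_eq_right hd)
      have h1n : 1 ≤ 2 ^ n := Nat.one_le_two_pow
      have e : (K : Set F) = insert 0 (Units.val '' ((powMonoidHom (2 ^ n - 1) : Fˣ →* Fˣ).ker : Set Fˣ)) := by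
        ext b
        show b ^ 2 ^ n = b ↔ _
        by_cases hb : b = 0
        · subst hb; simp [zero_pow (show 2 ^ n ≠ 0 by positivity)]
        · constructor
          · intro h
            refine Or.inr ⟨Units.mk0 b hb, ?_, rfl⟩
            show Units.mk0 b hb ^ (2 ^ n - 1) = 1
            apply Units.ext
            apply mul_right_cancel₀ hb
            rw [Units.val_pow_eq_pow_val, Units.val_mk0, ← pow_succ, Nat.sub_add_cancel h1n, h,
              Units.val_one, one_mul]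
          · rintro (h | ⟨u, hu, rfl⟩)
            · exact absurd h hb
            · have hu' : u ^ (2 ^ n - 1) = 1 := hu
              calc (u : F) ^ 2 ^ n = (u : F) ^ (2 ^ n - 1) * (u : F) := by
                    rw [← pow_succ, Nat.sub_add_cancel h1n]
                _ = (u : F) := by rw [← Units.val_pow_eq_pow_val, hu', Units.val_one, one_mul]
      rw [show Nat.card K = (K : Set F).ncard from Nat.card_coe_set_eq _, e,
        Set.ncard_insert_of_notMem (by rintro ⟨u, -, hu⟩; exact u.ne_zero hu),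
        Set.ncard_image_of_injective _ Units.val_injective, ← Nat.card_coe_set_eq, SetLike.coe_sort_coe, hroots]
      omega
    let E0 : Subgroup (Cfsg.Lie.Sz F τ.e) :=
      { carrier := {g | ∃ b ∈ K, g = uS τ 0 b}
        one_mem' := ⟨0, K.zero_mem, (uS_zero τ).symm⟩
        mul_mem' := by
          rintro _ _ ⟨b, hb, rfl⟩ ⟨c, hc, rfl⟩
          exact ⟨b + c, K.add_mem hb hc, by rw [uS_mul, add_zero, map_zero, zero_mul, add_zero]⟩
        inv_mem' := by
          rintro _ ⟨b, hb, rfl⟩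
          exact ⟨b, hb, by rw [uS_inv, map_zero, zero_mul, add_zero]⟩ }
    have hmapmem : ∀ e, φ e ∈ E0.map φ.toMonoidHom ↔ e ∈ E0 := fun e =>
      ⟨fun ⟨e', he', h⟩ => φ.injective h ▸ he', fun h => ⟨e, h, rfl⟩⟩
    refine ⟨E0.map φ.toMonoidHom, ⟨⟨⟨?_⟩⟩, ?_⟩, ?_, ?_⟩
    · rintro ⟨_, _, ⟨b, hb, rfl⟩, rfl⟩ ⟨_, _, ⟨c, hc, rfl⟩, rfl⟩
      apply Subtype.ext
      show φ (uS τ 0 b) * φ (uS τ 0 c) = φ (uS τ 0 c) * φ (uS τ 0 b)
      rw [← map_mul, ← map_mul]
      simp only [uS_mul, map_zero, zero_mul, add_zero, add_comm b c]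
    · rintro _ ⟨_, ⟨b, hb, rfl⟩, rfl⟩
      rw [← map_pow, pow_two, uS_mul, CharTwo.add_self_eq_zero, CharTwo.add_self_eq_zero, zero_add,
        map_zero, zero_mul, uS_zero, map_one]
    · rw [Subgroup.card_map_of_injective (show Function.Injective φ.toMonoidHom from φ.injective), ← hKcard]
      exact (Nat.card_congr (Equiv.ofBijective (fun b : K => (⟨uS τ 0 b, b, b.2, rfl⟩ : E0))
        ⟨fun b c h => Subtype.ext (uS_inj τ (congrArg Subtype.val h)).2,
          fun ⟨_, b, hb, e⟩ => ⟨⟨b, hb⟩, Subtype.ext e.symm⟩⟩)).symm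
    · intro g hg
      obtain ⟨x, rfl⟩ := φ.surjective g
      obtain ⟨z, ⟨hz1, hz2⟩, hz0⟩ : ∃ z, z ∈ E0.map φ.toMonoidHom ⊓
          (E0.map φ.toMonoidHom).map (MulAut.conj (φ x)).toMonoidHom ∧ z ≠ 1 := by
        by_contra hcon
        push Not at hcon
        exact hg ((Subgroup.eq_bot_iff_forall _).mpr hcon)
      obtain ⟨_, ⟨b, hb, rfl⟩, rfl⟩ := hz1
      obtain ⟨_, ⟨_, ⟨c, hc, rfl⟩, rfl⟩, hzc⟩ := hz2
      have hzc' : x * uS τ 0 c * x⁻¹ = uS τ 0 b := φ.injective (by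
        rw [map_mul, map_mul, map_inv]; exact hzc)
      have hb0 : b ≠ 0 := fun h => hz0 (by rw [h, uS_zero]; exact map_one _)
      have hxB : x ∈ bor τ := by
        refine mem_bor_of_fixes τ (y := uS τ 0 b) ⟨0, b, rfl⟩ (fun h => hz0 (by
          show φ (uS τ 0 b) = 1; rw [h, map_one])) ?_
        rw [← hzc']
        simpa [mul_assoc] using uS_mem_bor τ 0 c
      obtain ⟨u, p, q, rfl⟩ := (mem_bor_iff τ).mp hxB
      have hact : ∀ t, tS τ u * uS τ p q * uS τ 0 t * (tS τ u * uS τ p q)⁻¹ =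
          uS τ 0 (t / τ.th ((u⁻¹ : Fˣ) : F)) := by
        intro t
        have h1 : uS τ p q * uS τ 0 t = uS τ 0 t * uS τ p q := comm_uS_center τ p q t
        calc tS τ u * uS τ p q * uS τ 0 t * (tS τ u * uS τ p q)⁻¹
            = tS τ u * (uS τ p q * uS τ 0 t) * (uS τ p q)⁻¹ * (tS τ u)⁻¹ := by group
          _ = tS τ u * uS τ 0 t * (tS τ u)⁻¹ := by rw [h1]; group
          _ = _ := by rw [tS_uS, zero_mul, zero_div]
      rw [hact] at hzc'
      have hlam : τ.th ((u⁻¹ : Fˣ) : F) ∈ K := by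
        have h3 := (uS_inj τ hzc').2
        have hc0 : c ≠ 0 := fun h => hb0 (by rw [← h3, h, zero_div])
        have : τ.th ((u⁻¹ : Fˣ) : F) = c / b := by
          rw [← h3]; field_simp
        rw [this]; exact K.div_mem hc hb
      rw [Subgroup.mem_normalizer_iff]
      intro h
      obtain ⟨e, rfl⟩ := φ.surjective h
      have e1 : φ (tS τ u * uS τ p q) * φ e * (φ (tS τ u * uS τ p q))⁻¹ =
          φ (tS τ u * uS τ p q * e * (tS τ u * uS τ p q)⁻¹) := by simp only [map_mul, map_inv]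
      rw [e1, hmapmem, hmapmem]
      have ht0 : τ.th ((u⁻¹ : Fˣ) : F) ≠ 0 := fun h => (u⁻¹).ne_zero (τ.th_inj h)
      constructor
      · rintro ⟨t, ht, rfl⟩
        exact ⟨_, K.div_mem ht hlam, hact t⟩
      · rintro ⟨t, ht, he⟩
        refine ⟨t * τ.th ((u⁻¹ : Fˣ) : F), K.mul_mem ht hlam, ?_⟩
        have := hact (t * τ.th ((u⁻¹ : Fˣ) : F))
        rw [mul_div_cancel_right₀ _ ht0, ← he] at this
        exact (mul_left_cancel (mul_right_cancel this)).symm

end Cfsg.Agent.SzO
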