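import Mathlib
import Cfsg.Agent.Lib.SzO.Equiv

/-!
# Two-transitivity and the Zassenhaus property
-/

set_option autoImplicit false

open scoped Matrix Pointwise

namespace Cfsg.Agent.SzO

open Cfsg.Agent.SzB

variable {F : Type*} [Field F] [Fintype F] [CharP F 2] {m : ℕ}

theorem exists_base (τ : Twist F) {p q : Cfsg.Lie.Sz F τ.e} (h : pt p ≠ pt q) :
    ∃ g : Cfsg.Lie.Sz F τ.e, pt (g * 1) = pt p ∧ pt (g * wS τ) = pt q := by
  have hne : p⁻¹ * q ∉ bor τ := fun hb => h (pt_eq_iff.mpr hb).symm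
  obtain ⟨a, b, hab⟩ := exists_cell τ hne
  refine ⟨p * uS τ a b, ?_, ?_⟩
  · rw [mul_one, pt_eq_iff, inv_mul_cancel_left]
    exact uS_mem_bor τ a b
  · symm
    rw [pt_eq_iff]
    have e : (p * uS τ a b * wS τ)⁻¹ * q = (uS τ a b * wS τ)⁻¹ * (p⁻¹ * q) := by
      simp [mul_assoc]
    rw [e]
    exact hab

theorem inf_ne_zero : Cfsg.suzukiPointInfinity F ≠ Cfsg.suzukiPointZero F := by
  intro h
  obtain ⟨c, hc⟩ := (Projectivization.mk_eq_mk_iff' F _ _ _ _).mp h
  have := congrFun hc 0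
  simp at this

theorem torus_fix_pt (τ : Twist F) {u : Fˣ} {x y : F} (hxy : x ≠ 0 ∨ y ≠ 0)
    (h : toSL (tS τ u) • pt (uS τ x y * wS τ) = pt (uS τ x y * wS τ)) : u = 1 := by
  rw [smul_pt, pt_eq_iff] at h
  have hw : (wS τ)⁻¹ = wS τ := inv_eq_of_mul_eq_one_right (wS_sq τ)
  set x' := x * τ.th ((u⁻¹ : Fˣ) : F) / ((u⁻¹ : Fˣ) : F) ^ 2
  set y' := y / τ.th ((u⁻¹ : Fˣ) : F)
  have e : tS τ u * (uS τ x y * wS τ) = uS τ x' y' * wS τ * (tS τ u)⁻¹ := by
    have hd := tS_uS τ u x y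
    rw [mul_inv_eq_iff_eq_mul] at hd
    rw [← wS_tS τ u, ← mul_assoc, hd]
    calc uS τ x' y' * tS τ u * wS τ
        = uS τ x' y' * (wS τ * wS τ) * tS τ u * wS τ := by rw [wS_sq, mul_one]
      _ = _ := by simp only [mul_assoc]
  rw [e, ← mul_assoc] at h
  have h' : (uS τ x y * wS τ)⁻¹ * (uS τ x' y' * wS τ) ∈ bor τ := by
    have := mul_mem h (tS_mem_bor τ u)
    rwa [inv_mul_cancel_right] at this
  obtain ⟨h1, h2⟩ := cell_unique τ h'
  have hu0 : ((u⁻¹ : Fˣ) : F) ≠ 0 := (u⁻¹ : Fˣ).ne_zero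
  have ht0 : τ.th ((u⁻¹ : Fˣ) : F) ≠ 0 := fun h => hu0 (τ.th_inj h)
  rcases hxy with hx | hy
  · have h3 : τ.th ((u⁻¹ : Fˣ) : F) / ((u⁻¹ : Fˣ) : F) ^ 2 = 1 := by
      apply mul_left_cancel₀ hx
      rw [mul_one, ← mul_div_assoc]; exact h1.symm
    exact inv_eq_one.mp (chi_inj τ h3)
  · have h3 : τ.th ((u⁻¹ : Fˣ) : F) = 1 := by
      have h4 : y * τ.th ((u⁻¹ : Fˣ) : F) = y := (eq_div_iff ht0).mp h2
      exact mul_left_cancel₀ hy (by rw [mul_one]; exact h4)
    exact inv_eq_one.mp (Units.ext (τ.th.injective (by rw [h3, Units.val_one, map_one])))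

theorem three_fix (hm : 1 ≤ m) (hF : Fintype.card F = 2 ^ (2 * m + 1))
    {g : Matrix.SpecialLinearGroup (Fin 4) F} (hg : g ∈ Cfsg.Sz F m)
    {a b c : Projectivization F (Fin 4 → F)} (ha : a ∈ Cfsg.suzukiOvoid F m)
    (hb : b ∈ Cfsg.suzukiOvoid F m) (hc : c ∈ Cfsg.suzukiOvoid F m)
    (hab : a ≠ b) (hbc : b ≠ c) (hac : a ≠ c)
    (h1 : g • a = a) (h2 : g • b = b) (h3 : g • c = c) : g = 1 := by
  set τ := stdTwist hF
  rw [ovoid_eq hF] at ha hb hc
  obtain ⟨p, rfl⟩ := ha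
  obtain ⟨q, rfl⟩ := hb
  obtain ⟨r, rfl⟩ := hc
  obtain ⟨k, hk1, hk2⟩ := exists_base τ hab
  rw [← smul_pt, pt_one] at hk1
  rw [← smul_pt, pt_wS] at hk2
  set g' := (toSL k)⁻¹ * g * toSL k with hg'
  have hg'm : g' ∈ Cfsg.Sz F m := mul_mem (mul_mem (inv_mem (toSL_mem hF k)) hg) (toSL_mem hF k)
  have f1 : g' • Cfsg.suzukiPointInfinity F = Cfsg.suzukiPointInfinity F := by
    rw [hg', mul_smul, mul_smul, hk1, h1, ← hk1, inv_smul_smul]
  have f2 : g' • Cfsg.suzukiPointZero F = Cfsg.suzukiPointZero F := by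
    rw [hg', mul_smul, mul_smul, hk2, h2, ← hk2, inv_smul_smul]
  have f3 : g' • pt (k⁻¹ * r) = pt (k⁻¹ * r) := by
    rw [← smul_pt, map_inv, hg', mul_smul, mul_smul, smul_inv_smul, h3]
  obtain ⟨u, hu⟩ := fix_two hm hF g' (fun p hp => stab_mem hm hF hg'm hp) f1 f2
  have hu1 : u = 1 := by
    rcases pt_cases (k⁻¹ * r) with h | ⟨x, y, h⟩
    · exfalso
      apply hac
      rw [← hk1, ← pt_one (τ := τ), ← h, smul_pt, mul_inv_cancel_left]
    · rw [hu, h] at f3
      refine torus_fix_pt τ ?_ f3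
      by_contra h0
      push Not at h0
      obtain ⟨rfl, rfl⟩ := h0
      apply hbc
      rw [uS_zero, one_mul] at h
      rw [← hk2, ← pt_wS (τ := τ), ← h, smul_pt, mul_inv_cancel_left]
  rw [hu1, map_one, map_one] at hu
  calc g = toSL k * g' * (toSL k)⁻¹ := by rw [hg']; simp [mul_assoc]
    _ = 1 := by rw [hu]; simp

theorem zassenhaus (hm : 1 ≤ m) (hF : Fintype.card F = 2 ^ (2 * m + 1)) :
    Cfsg.IsZassenhausGroup (Cfsg.Sz F m) (Cfsg.suzukiOvoid F m) := by
  classical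
  set τ := stdTwist hF
  have hmem : ∀ y : Cfsg.Lie.Sz F τ.e, pt y ∈ Cfsg.suzukiOvoid F m := fun y => by
    rw [ovoid_eq hF]; exact ⟨y, rfl⟩
  obtain ⟨v, hv⟩ := exists_unit_ne hm hF
  have h3 : ∀ g : ↥(Cfsg.Sz F m), ∀ a b c : Cfsg.suzukiOvoid F m, a ≠ b → b ≠ c → a ≠ c →
      g • a = a → g • b = b → g • c = c → g = 1 := fun g a b c hab hbc hac e1 e2 e3 =>
    Subtype.ext (three_fix hm hF g.2 a.2 b.2 c.2 (fun h => hab (Subtype.ext h))
      (fun h => hbc (Subtype.ext h)) (fun h => hac (Subtype.ext h))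
      (congrArg Subtype.val e1) (congrArg Subtype.val e2) (congrArg Subtype.val e3))
  let P : Cfsg.Lie.Sz F τ.e → Cfsg.suzukiOvoid F m := fun y => ⟨pt y, hmem y⟩
  have hP : ∀ x y, szEquiv hm hF x • P y = P (x * y) := fun x y => Subtype.ext (smul_pt x y)
  have hPs : Function.Surjective P := by
    rintro ⟨p, hp⟩
    rw [ovoid_eq hF] at hp
    obtain ⟨y, rfl⟩ := hp
    exact ⟨y, rfl⟩
  have hinfz : P 1 ≠ P (wS τ) := fun h =>
    inf_ne_zero (by rw [← pt_one (τ := τ), ← pt_wS (τ := τ)]; exact congrArg Subtype.val h)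
  refine ⟨⟨fun {g h} hgh => ?_⟩, ?_, h3, ?_, ?_⟩
  · have key : ∀ k : ↥(Cfsg.Sz F m), (∀ a : Cfsg.suzukiOvoid F m, k • a = a) → k = 1 := by
      intro k hk
      have hne1 : P 1 ≠ P (uS τ 1 0 * wS τ) := fun e => by
        have e' := pt_eq_iff.mp (congrArg Subtype.val e).symm
        rw [inv_one, one_mul] at e'
        exact uw_not_mem τ 1 0 e'
      have hne2 : P (wS τ) ≠ P (uS τ 1 0 * wS τ) := fun e => by
        have e' := pt_eq_iff.mp (congrArg Subtype.val e).symm
        have e'' : (uS τ 0 0 * wS τ)⁻¹ * (uS τ 1 0 * wS τ) ∈ bor τ := by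
          rw [uS_zero, one_mul]; exact e'
        exact zero_ne_one (cell_unique τ e'').1
      exact h3 k _ _ _ hinfz hne2 hne1 (hk _) (hk _) (hk _)
    have : g⁻¹ * h = 1 := key _ (fun a => by rw [mul_smul, ← hgh a, inv_smul_smul])
    exact inv_mul_eq_one.mp this
  · rw [MulAction.is_two_pretransitive_iff]
    intro a b c d hab hcd
    obtain ⟨p, rfl⟩ := hPs a
    obtain ⟨q, rfl⟩ := hPs b
    obtain ⟨r, rfl⟩ := hPs c
    obtain ⟨s, rfl⟩ := hPs d
    obtain ⟨k, hk1, hk2⟩ := exists_base τ (fun e => hab (Subtype.ext e))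
    obtain ⟨l, hl1, hl2⟩ := exists_base τ (fun e => hcd (Subtype.ext e))
    refine ⟨szEquiv hm hF (l * k⁻¹), ?_, ?_⟩
    · rw [show P p = P (k * 1) from Subtype.ext hk1.symm, hP, mul_assoc, inv_mul_cancel_left]
      exact Subtype.ext hl1
    · rw [show P q = P (k * wS τ) from Subtype.ext hk2.symm, hP, mul_assoc, inv_mul_cancel_left]
      exact Subtype.ext hl2
  · refine ⟨szEquiv hm hF (tS τ v), ?_, P 1, P (wS τ), hinfz, ?_, ?_⟩
    · intro e
      apply hv
      apply tS_injective τ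
      rw [map_one]
      exact (szEquiv hm hF).injective (e.trans (map_one _).symm)
    · rw [hP, mul_one]
      refine Subtype.ext (pt_eq_iff.mpr ?_)
      rw [inv_one, one_mul]
      exact tS_mem_bor τ v
    · rw [hP]
      refine Subtype.ext (pt_eq_iff.mpr ?_)
      have hw : (wS τ)⁻¹ = wS τ := inv_eq_of_mul_eq_one_right (wS_sq τ)
      rw [hw, ← mul_assoc, wS_tS]
      exact inv_mem (tS_mem_bor τ v)
  · intro N hN htr
    haveI : IsSimpleGroup ↥(Cfsg.Sz F m) := by
      haveI := Cfsg.Agent.SzB.simple τ ⟨v, hv⟩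
      exact (szEquiv hm hF).symm.isSimpleGroup
    rcases hN.eq_bot_or_eq_top with rfl | rfl
    · obtain ⟨⟨g, hg⟩, hga⟩ := htr.exists_smul_eq (P 1) (P (wS τ))
      rw [Subgroup.mem_bot] at hg
      subst hg
      exact absurd ((one_smul _ _).symm.trans hga) hinfz
    · refine ⟨P 1, fun hbot => hv ?_⟩
      have hm' : (⟨szEquiv hm hF (tS τ v), Subgroup.mem_top _⟩ : (⊤ : Subgroup ↥(Cfsg.Sz F m))) ∈
          MulAction.stabilizer (⊤ : Subgroup ↥(Cfsg.Sz F m)) (P 1) := by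
        show szEquiv hm hF (tS τ v) • P 1 = P 1
        rw [hP, mul_one]
        refine Subtype.ext (pt_eq_iff.mpr ?_)
        rw [inv_one, one_mul]
        exact tS_mem_bor τ v
      rw [hbot, Subgroup.mem_bot] at hm'
      apply tS_injective τ
      rw [map_one]
      exact (szEquiv hm hF).injective ((congrArg Subtype.val hm').trans (map_one _).symm)

theorem three_independent (hm : 1 ≤ m) (hF : Fintype.card F = 2 ^ (2 * m + 1))
    (p : Fin 3 ↪ Cfsg.suzukiOvoid F m) :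
    Projectivization.Independent (fun i => (p i : Projectivization F (Fin 4 → F))) := by
  classical
  have := hm
  set τ := stdTwist hF
  have hr : ∀ i, ∃ g : Cfsg.Lie.Sz F τ.e, pt g = (p i : Projectivization F (Fin 4 → F)) := fun i => by
    exact (Set.ext_iff.mp (ovoid_eq hF) _).mp (p i).2
  choose r hr using hr
  have hne : ∀ {i j}, i ≠ j → pt (r i) ≠ pt (r j) := fun {i j} hij e =>
    hij (p.injective (Subtype.ext (by rw [← hr i, ← hr j, e])))
  obtain ⟨k, hk1, hk2⟩ := exists_base τ (hne (show (0 : Fin 3) ≠ 1 by decide))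
  obtain ⟨x, y, hc⟩ : ∃ x y : F, pt (k⁻¹ * r 2) = pt (uS τ x y * wS τ) := by
    rcases pt_cases (k⁻¹ * r 2) with h | h
    · exfalso
      apply hne (show (0 : Fin 3) ≠ 2 by decide)
      rw [← hk1, ← smul_pt, ← h, smul_pt, mul_inv_cancel_left]
    · exact h
  have hxy : x ≠ 0 ∨ y ≠ 0 := by
    by_contra h0
    push Not at h0
    obtain ⟨rfl, rfl⟩ := h0
    apply hne (show (1 : Fin 3) ≠ 2 by decide)
    rw [uS_zero, one_mul] at hc
    rw [← hk2, ← smul_pt, ← hc, smul_pt, mul_inv_cancel_left]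
  let M := ((toSL k : Matrix.SpecialLinearGroup (Fin 4) F) : Matrix (Fin 4) (Fin 4) F)
  let w : Fin 3 → Fin 4 → F := fun i => M *ᵥ ![![1, 0, 0, 0], ![0, 0, 0, 1], ov (τ := τ) x y] i
  have hwpt : ∀ i, ∃ h : w i ≠ 0, Projectivization.mk F (w i) h = (p i : Projectivization F (Fin 4 → F)) := by
    intro i
    have key : ∀ (v : Fin 4 → F) (hv : v ≠ 0),
        ∃ h : M *ᵥ v ≠ 0, Projectivization.mk F (M *ᵥ v) h = toSL k • Projectivization.mk F v hv := by
      intro v hv
      have hk' : M *ᵥ v ≠ 0 := by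
        intro h0
        apply hv
        have := congrArg (((toSL k : Matrix.SpecialLinearGroup (Fin 4) F)⁻¹).1 *ᵥ ·) h0
        simp only [M, Matrix.mulVec_mulVec, Matrix.mulVec_zero] at this
        rw [← Matrix.SpecialLinearGroup.coe_mul, inv_mul_cancel, Matrix.SpecialLinearGroup.coe_one,
          Matrix.one_mulVec] at this
        exact this
      exact ⟨hk', (sl_smul_mk _ _ hk').symm⟩
    fin_cases i
    · obtain ⟨h, e⟩ := key ![1, 0, 0, 0] (by simp)
      refine ⟨h, e.trans ?_⟩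
      show toSL k • Cfsg.suzukiPointInfinity F = _
      rw [← pt_one (τ := τ), smul_pt, hk1, hr]
      rfl
    · obtain ⟨h, e⟩ := key ![0, 0, 0, 1] (by simp)
      refine ⟨h, e.trans ?_⟩
      show toSL k • Cfsg.suzukiPointZero F = _
      rw [← pt_wS (τ := τ), smul_pt, hk2, hr]
      rfl
    · obtain ⟨h, e⟩ := key (ov (τ := τ) x y) (ov_ne x y)
      refine ⟨h, e.trans ?_⟩
      rw [← pt_cell, ← hc, smul_pt, mul_inv_cancel_left, hr]
      rfl
  choose hw0 hwp using hwpt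
  have hind : LinearIndependent F w := by
    have h0 : LinearIndependent F ![(![1, 0, 0, 0] : Fin 4 → F), ![0, 0, 0, 1], ov (τ := τ) x y] := by
      rw [Fintype.linearIndependent_iff]
      intro g hg
      have e1 := congrFun hg 1
      have e2 := congrFun hg 2
      have e0 := congrFun hg 0
      have e3 := congrFun hg 3
      simp [Fin.sum_univ_three, ov] at e0 e1 e2 e3
      have hg2 : g 2 = 0 := by
        rcases hxy with h | h
        · rcases e2 with e | e
          · exact e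
          · exact absurd e h
        · rcases e1 with e | e
          · exact e
          · exact absurd e h
      rw [hg2] at e0 e3
      intro i
      fin_cases i
      · simpa using e0
      · simpa using e3
      · exact hg2
    have hker : LinearMap.ker (Matrix.mulVecLin M) = ⊥ := by
      rw [LinearMap.ker_eq_bot]
      exact Matrix.mulVec_injective_iff_isUnit.mpr
        ((Matrix.isUnit_iff_isUnit_det M).mpr (by
          rw [(toSL k : Matrix.SpecialLinearGroup (Fin 4) F).2]; exact isUnit_one))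
    exact h0.map' _ hker
  have he : (fun i => (p i : Projectivization F (Fin 4 → F))) =
      fun i => Projectivization.mk F (w i) (hw0 i) := funext fun i => (hwp i).symm
  rw [he]
  exact Projectivization.Independent.mk w hw0 hind

end Cfsg.Agent.SzO
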